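import Mathlib

/-!
Small toolkit to bound the index of a subgroup by a hand-made (script generated) coset table:
a finite list of points of `G ⧸ H` which contains the trivial coset and is closed under a
generating set is everything.
-/

set_option autoImplicit false

namespace Cfsg.Agent.Lib.Helper56

theorem mul_eq_one_rot {G : Type*} [Group G] {a b : G} (h : a * b = 1) : b * a = 1 := by
  have : b = a⁻¹ := (eq_inv_of_mul_eq_one_right h)
  rw [this, inv_mul_cancel]

/-- A finite set of points closed under a generating set is closed under the whole group. -/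
theorem smul_mem_of_closure {G X : Type*} [Group G] [MulAction G X] {T : Set G}
    (hT : Subgroup.closure T = ⊤) {S : Set X} (hS : S.Finite)
    (h : ∀ t ∈ T, ∀ q ∈ S, t • q ∈ S) (g : G) {q : X} (hq : q ∈ S) : g • q ∈ S := by
  let K : Subgroup G :=
    { carrier := {g | ∀ q, g • q ∈ S ↔ q ∈ S}
      one_mem' := by intro q; simp
      mul_mem' := by
        intro a b ha hb q
        rw [mul_smul, ha, hb]
      inv_mem' := by
        intro a ha q
        rw [← ha (a⁻¹ • q), smul_inv_smul] }
  have hTK : T ⊆ K := by
    intro t ht q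
    refine ⟨fun hq => ?_, fun hq => h t ht q hq⟩
    have : Finite S := hS
    let f : S → S := fun s => ⟨t • s.1, h t ht s.1 s.2⟩
    have hf : Function.Injective f := by
      intro a b hab
      have : t • a.1 = t • b.1 := congrArg Subtype.val hab
      exact Subtype.ext (smul_left_cancel t this)
    obtain ⟨s, hs⟩ := Finite.surjective_of_injective hf ⟨t • q, hq⟩
    have : t • s.1 = t • q := congrArg Subtype.val hs
    rw [← smul_left_cancel t this]
    exact s.2
  have hK : K = ⊤ := by
    rw [eq_top_iff, ← hT, Subgroup.closure_le]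
    exact hTK
  have hg : g ∈ K := by rw [hK]; exact Subgroup.mem_top g
  exact (hg q).2 hq

/-- A list of cosets containing the trivial coset and closed under a generating set bounds the
index. -/
theorem index_le_of_cover {G : Type*} [Group G] (H : Subgroup G) {T : Set G}
    (hT : Subgroup.closure T = ⊤) (L : List (G ⧸ H)) (h1 : ((1 : G) : G ⧸ H) ∈ L)
    (h : ∀ t ∈ T, ∀ q ∈ L, t • q ∈ L) : H.index ≠ 0 ∧ H.index ≤ L.length := by
  have hall : ∀ q : G ⧸ H, q ∈ L := by
    intro q
    induction q using QuotientGroup.induction_on with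
    | H g =>
      have := smul_mem_of_closure (X := G ⧸ H) hT (S := {q | q ∈ L}) (List.finite_toSet L) h g h1
      simpa using this
  have hsurj : Function.Surjective (fun i : Fin L.length => L.get i) := by
    intro q
    obtain ⟨i, hi⟩ := List.mem_iff_get.1 (hall q)
    exact ⟨i, hi⟩
  have : Finite (G ⧸ H) := Finite.of_surjective _ hsurj
  refine ⟨Subgroup.index_ne_zero_of_finite, ?_⟩
  have := Nat.card_le_card_of_surjective _ hsurj
  simpa [Subgroup.index] using this

/-- Bound on the order of a group from a cover of the cosets of a cyclic subgroup. -/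
theorem card_le_of_cover_zpowers {G : Type*} [Group G] (y : G) {n : ℕ} (hn : 0 < n) (hy : y ^ n = 1)
    {T : Set G} (hT : Subgroup.closure T = ⊤) (L : List (G ⧸ Subgroup.zpowers y))
    (h1 : ((1 : G) : G ⧸ Subgroup.zpowers y) ∈ L)
    (h : ∀ t ∈ T, ∀ q ∈ L, t • q ∈ L) : Finite G ∧ Nat.card G ≤ n * L.length := by
  obtain ⟨h0, hle⟩ := index_le_of_cover (Subgroup.zpowers y) hT L h1 h
  have hfo : IsOfFinOrder y := isOfFinOrder_iff_pow_eq_one.2 ⟨n, hn, hy⟩
  have hcard : Nat.card (Subgroup.zpowers y) = orderOf y := Nat.card_zpowers y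
  have hpos : 0 < orderOf y := hfo.orderOf_pos
  have hle' : orderOf y ≤ n := Nat.le_of_dvd hn (orderOf_dvd_of_pow_eq_one hy)
  have hmul := (Subgroup.zpowers y).card_mul_index
  rw [hcard] at hmul
  constructor
  · apply Nat.finite_of_card_ne_zero
    rw [← hmul]
    exact Nat.mul_ne_zero hpos.ne' h0
  · rw [← hmul]
    exact Nat.mul_le_mul hle' hle

end Cfsg.Agent.Lib.Helper56
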