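import Mathlib
import Cfsg.Prelude.Def_Spor_J3

/-!
Packed 9 × 9 matrices over the field with four elements (helper56).

A matrix is a natural number of 162 bits: the entry in row `w` and column `z` occupies the two bits
`18 z + 2 w` (coefficient of `1`) and `18 z + 2 w + 1` (coefficient of `ω`).  A column vector is a
matrix whose only nonzero column is column `0`.  `mulCode` multiplies two packed matrices with about
a hundred arithmetic operations, `decM_mulCode` proves it correct.
-/

set_option autoImplicit false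

namespace Cfsg.Agent.Lib.Helper56.J3

open Cfsg.Spor

/-! ### The packed operations -/

def M01 : ℕ := 0x15555555555555555555555555555555555555555
def M10 : ℕ := 0x2aaaaaaaaaaaaaaaaaaaaaaaaaaaaaaaaaaaaaaaa
def SEL : ℕ := 0x1000040001000040001000040001000040001

/-- multiplication of all entries by `ω` -/
def mulw (X : ℕ) : ℕ := ((X >>> 1) &&& M01) ^^^ ((X &&& M01) <<< 1) ^^^ (X &&& M10)

def col (A z : ℕ) : ℕ := (A >>> (18 * z)) &&& (2 ^ 18 - 1)

def term (A wA B z : ℕ) : ℕ :=
  (col A z * ((B >>> (2 * z)) &&& SEL)) ^^^ (col wA z * ((B >>> (2 * z + 1)) &&& SEL))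

def mulAux (A wA B : ℕ) : ℕ :=
  term A wA B 0 ^^^ term A wA B 1 ^^^ term A wA B 2 ^^^ term A wA B 3 ^^^ term A wA B 4 ^^^
    term A wA B 5 ^^^ term A wA B 6 ^^^ term A wA B 7 ^^^ term A wA B 8

def mulCode (A B : ℕ) : ℕ := mulAux A (mulw A) B

/-! ### Decoding -/

section
variable {F : Type*} [Field F]

/-- What we need of the field and of `ω`. -/
structure Hyp (ω : F) : Prop where
  two : (1 : F) + 1 = 0
  om : ω * ω = ω + 1

def bF (F : Type*) [Field F] (b : Bool) : F := if b then 1 else 0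

def ent (ω : F) (X p : ℕ) : F := bF F (X.testBit p) + bF F (X.testBit (p + 1)) * ω

def idx (z : F9) : ℕ := 3 * z.1.val + z.2.val

def decM (ω : F) (A : ℕ) : Matrix F9 F9 F := Matrix.of fun w z => ent ω A (18 * idx z + 2 * idx w)

def decV (ω : F) (v : ℕ) : F9 → F := fun w => ent ω v (2 * idx w)

theorem idx_lt (z : F9) : idx z < 9 := by
  have h1 := ZMod.val_lt z.1
  have h2 := ZMod.val_lt z.2
  unfold idx
  omega

theorem bF_xor {ω : F} (h : Hyp ω) (a b : Bool) : bF F (a ^^ b) = bF F a + bF F b := by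
  cases a <;> cases b <;> simp [bF, h.two]

theorem bF_and (a b : Bool) : bF F (a && b) = bF F a * bF F b := by
  cases a <;> cases b <;> simp [bF]

theorem ent_xor {ω : F} (h : Hyp ω) (X Y p : ℕ) : ent ω (X ^^^ Y) p = ent ω X p + ent ω Y p := by
  simp only [ent, Nat.testBit_xor, bF_xor h]
  ring

theorem mask_facts : ∀ k < 81, M01.testBit (2 * k) = true ∧ M01.testBit (2 * k + 1) = false ∧
    M10.testBit (2 * k) = false ∧ M10.testBit (2 * k + 1) = true := by
  decide +kernel

theorem testBit_mulw_even (X k : ℕ) (hk : k < 81) :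
    (mulw X).testBit (2 * k) = X.testBit (2 * k + 1) := by
  obtain ⟨h1, h2, h3, h4⟩ := mask_facts k hk
  simp only [mulw, Nat.testBit_xor, Nat.testBit_and, Nat.testBit_shiftRight, Nat.testBit_shiftLeft,
    h1, h3]
  rcases Nat.eq_zero_or_pos k with rfl | hk0
  · simp
  · obtain ⟨h1', h2', h3', h4'⟩ := mask_facts (k - 1) (by omega)
    have e : 2 * k - 1 = 2 * (k - 1) + 1 := by omega
    rw [e, h2']
    simp [Nat.add_comm]

theorem testBit_mulw_odd (X k : ℕ) (hk : k < 81) :
    (mulw X).testBit (2 * k + 1) = (X.testBit (2 * k) ^^ X.testBit (2 * k + 1)) := by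
  obtain ⟨h1, h2, h3, h4⟩ := mask_facts k hk
  simp only [mulw, Nat.testBit_xor, Nat.testBit_and, Nat.testBit_shiftRight, Nat.testBit_shiftLeft,
    h2, h4]
  simp [h1]

theorem ent_mulw {ω : F} (h : Hyp ω) (X k : ℕ) (hk : k < 81) :
    ent ω (mulw X) (2 * k) = ω * ent ω X (2 * k) := by
  simp only [ent, testBit_mulw_even X k hk, testBit_mulw_odd X k hk, bF_xor h]
  have := h.om
  have h2 := h.two
  linear_combination (-(bF F (X.testBit (2 * k + 1)))) * this

/-! ### The outer product by one integer multiplication -/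

def sel : ℕ → ℕ
  | 0 => 0
  | n + 1 => 2 ^ 18 * sel n + 1

theorem SEL_eq : SEL = sel 9 := by decide +kernel

theorem and_sel (S n : ℕ) :
    S &&& sel (n + 1) = 2 ^ 18 * ((S >>> 18) &&& sel n) + S % 2 := by
  apply Nat.eq_of_testBit_eq
  intro j
  have h2 : S % 2 < 2 ^ 18 := lt_of_lt_of_le (Nat.mod_lt _ (by norm_num)) (by norm_num)
  rw [Nat.testBit_and, sel, Nat.testBit_two_pow_mul_add _ (by norm_num : 1 < 2 ^ 18),
    Nat.testBit_two_pow_mul_add _ h2]
  by_cases hj : j < 18
  · simp only [hj, if_true]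
    have : S % 2 = S % 2 ^ 1 := by norm_num
    rw [this, Nat.testBit_mod_two_pow]
    rcases Nat.eq_zero_or_pos j with rfl | hj0
    · simp
    · have h1 : Nat.testBit 1 j = false := by
        have e1 : (1 : ℕ) = 2 ^ 1 - 1 := by norm_num
        rw [e1, Nat.testBit_two_pow_sub_one]
        simp; omega
      have h3 : ¬ j < 1 := by omega
      simp [h1, h3]
  · simp only [hj, if_false, Nat.testBit_and, Nat.testBit_shiftRight]
    have : 18 + (j - 18) = j := by omega
    rw [this]

theorem testBit_mul_sel (x : ℕ) (hx : x < 2 ^ 18) : ∀ (n S c r : ℕ), c < n → r < 18 →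
    (x * (S &&& sel n)).testBit (18 * c + r) = (x.testBit r && S.testBit (18 * c)) := by
  intro n
  induction n with
  | zero => intro S c r hc; omega
  | succ n ih =>
    intro S c r hc hr
    have hlt : x * (S % 2) < 2 ^ 18 := by
      rcases Nat.mod_two_eq_zero_or_one S with h | h
      · rw [h]; norm_num
      · rw [h, Nat.mul_one]; exact hx
    have e : x * (2 ^ 18 * ((S >>> 18) &&& sel n) + S % 2)
        = 2 ^ 18 * (x * ((S >>> 18) &&& sel n)) + x * (S % 2) := by ring
    rw [and_sel, e, Nat.testBit_two_pow_mul_add _ hlt]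
    rcases Nat.eq_zero_or_pos c with rfl | hc0
    · simp only [Nat.mul_zero, Nat.zero_add, hr, if_true]
      rcases Nat.mod_two_eq_zero_or_one S with h | h
      · have : S.testBit 0 = false := by simp [Nat.testBit_zero, h]
        simp [h, this]
      · have : S.testBit 0 = true := by simp [Nat.testBit_zero, h]
        simp [h, this]
    · have h1 : ¬ 18 * c + r < 18 := by omega
      have h2 : 18 * c + r - 18 = 18 * (c - 1) + r := by omega
      simp only [h1, if_false]
      rw [h2, ih _ (c - 1) r (by omega) hr, Nat.testBit_shiftRight]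
      have h3 : 18 + 18 * (c - 1) = 18 * c := by omega
      rw [h3]

theorem col_lt (A z : ℕ) : col A z < 2 ^ 18 := by
  unfold col
  exact lt_of_le_of_lt Nat.and_le_right (by norm_num)

theorem testBit_col (A z r : ℕ) (hr : r < 18) : (col A z).testBit r = A.testBit (18 * z + r) := by
  rw [col, Nat.testBit_and, Nat.testBit_shiftRight, Nat.testBit_two_pow_sub_one]
  simp [hr]

theorem ent_outer (ω : F) (A z B q c w : ℕ) (hc : c < 9) (hw : w < 9) :
    ent ω (col A z * ((B >>> q) &&& SEL)) (18 * c + 2 * w)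
      = ent ω A (18 * z + 2 * w) * bF F (B.testBit (q + 18 * c)) := by
  have e : 18 * c + 2 * w + 1 = 18 * c + (2 * w + 1) := by ring
  have e' : 18 * z + 2 * w + 1 = 18 * z + (2 * w + 1) := by ring
  simp only [ent]
  rw [e, e', SEL_eq, testBit_mul_sel _ (col_lt A z) 9 _ c _ hc (by omega),
    testBit_mul_sel _ (col_lt A z) 9 _ c _ hc (by omega), testBit_col _ _ _ (by omega),
    testBit_col _ _ _ (by omega), Nat.testBit_shiftRight, bF_and, bF_and]
  ring

theorem ent_term {ω : F} (h : Hyp ω) (A B z c w : ℕ) (hz : z < 9) (hc : c < 9) (hw : w < 9) :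
    ent ω (term A (mulw A) B z) (18 * c + 2 * w)
      = ent ω A (18 * z + 2 * w) * ent ω B (18 * c + 2 * z) := by
  have e : 18 * z + 2 * w = 2 * (9 * z + w) := by ring
  rw [term, ent_xor h, ent_outer ω _ _ _ _ _ _ hc hw, ent_outer ω _ _ _ _ _ _ hc hw]
  rw [e, ent_mulw h _ _ (by omega)]
  have e1 : 2 * z + 18 * c = 18 * c + 2 * z := by ring
  have e2 : 2 * z + 1 + 18 * c = 18 * c + 2 * z + 1 := by ring
  rw [e1, e2]
  simp only [ent]
  ring

theorem ent_mulCode {ω : F} (h : Hyp ω) (A B c w : ℕ) (hc : c < 9) (hw : w < 9) :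
    ent ω (mulCode A B) (18 * c + 2 * w)
      = ∑ z ∈ Finset.range 9, ent ω A (18 * z + 2 * w) * ent ω B (18 * c + 2 * z) := by
  simp only [mulCode, mulAux, ent_xor h]
  rw [ent_term h _ _ 0 _ _ (by norm_num) hc hw, ent_term h _ _ 1 _ _ (by norm_num) hc hw,
    ent_term h _ _ 2 _ _ (by norm_num) hc hw, ent_term h _ _ 3 _ _ (by norm_num) hc hw,
    ent_term h _ _ 4 _ _ (by norm_num) hc hw, ent_term h _ _ 5 _ _ (by norm_num) hc hw,
    ent_term h _ _ 6 _ _ (by norm_num) hc hw, ent_term h _ _ 7 _ _ (by norm_num) hc hw,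
    ent_term h _ _ 8 _ _ (by norm_num) hc hw]
  simp only [Finset.sum_range_succ, Finset.sum_range_zero, zero_add]

theorem sum_F9 (f : ℕ → F) : ∑ z : F9, f (idx z) = ∑ k ∈ Finset.range 9, f k := by
  rw [Fintype.sum_prod_type]
  simp only [idx]
  show ∑ x : Fin 3, ∑ y : Fin 3, f (3 * ZMod.val (n := 3) x + ZMod.val (n := 3) y) = _
  simp only [Fin.sum_univ_three, Finset.sum_range_succ, Finset.sum_range_zero, zero_add]
  have h0 : ZMod.val (n := 3) (0 : Fin 3) = 0 := rfl
  have h1 : ZMod.val (n := 3) (1 : Fin 3) = 1 := rfl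
  have h2 : ZMod.val (n := 3) (2 : Fin 3) = 2 := rfl
  simp only [h0, h1, h2]
  norm_num
  ring

theorem decM_mulCode {ω : F} (h : Hyp ω) (A B : ℕ) :
    decM ω (mulCode A B) = decM ω A * decM ω B := by
  ext w c
  rw [Matrix.mul_apply]
  simp only [decM, Matrix.of_apply]
  rw [ent_mulCode h _ _ _ _ (idx_lt c) (idx_lt w),
    ← sum_F9 (fun z => ent ω A (18 * z + 2 * idx w) * ent ω B (18 * idx c + 2 * z))]

theorem decV_mulCode {ω : F} (h : Hyp ω) (A v : ℕ) :
    decV ω (mulCode A v) = (decM ω A).mulVec (decV ω v) := by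
  ext w
  rw [Matrix.mulVec, dotProduct]
  simp only [decM, decV, Matrix.of_apply]
  have := ent_mulCode h A v 0 (idx w) (by norm_num) (idx_lt w)
  simp only [Nat.mul_zero, Nat.zero_add] at this
  rw [this, ← sum_F9 (fun z => ent ω A (18 * z + 2 * idx w) * ent ω v (2 * z))]

/-! ### Reading off entries -/

def dec4 (ω : F) (n : ℕ) : F := bF F (n.testBit 0) + bF F (n.testBit 1) * ω

theorem dec4_zero (ω : F) : dec4 ω 0 = 0 := by simp [dec4, bF]
theorem dec4_one (ω : F) : dec4 ω 1 = 1 := by
  have h1 : Nat.testBit 1 1 = false := by decide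
  simp [dec4, bF, h1]
theorem dec4_two (ω : F) : dec4 ω 2 = ω := by
  have h0 : Nat.testBit 2 0 = false := by decide
  have h1 : Nat.testBit 2 1 = true := by decide
  simp [dec4, bF, h0, h1]
theorem dec4_three (ω : F) : dec4 ω 3 = 1 + ω := by
  have h0 : Nat.testBit 3 0 = true := by decide
  have h1 : Nat.testBit 3 1 = true := by decide
  simp [dec4, bF, h0, h1]

theorem ent_eq_dec4 (ω : F) (X p : ℕ) : ent ω X p = dec4 ω ((X >>> p) % 4) := by
  have e : (4 : ℕ) = 2 ^ 2 := by norm_num
  simp only [ent, dec4, e, Nat.testBit_mod_two_pow, Nat.testBit_shiftRight]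
  simp

theorem decM_apply_of (ω : F) (c e : ℕ) (w z : F9)
    (h : (c >>> (18 * idx z + 2 * idx w)) % 4 = e) : decM ω c w z = dec4 ω e := by
  rw [← h, ← ent_eq_dec4]; rfl

theorem decV_apply_of (ω : F) (c e : ℕ) (w : F9)
    (h : (c >>> (2 * idx w)) % 4 = e) : decV ω c w = dec4 ω e := by
  rw [← h, ← ent_eq_dec4]; rfl

def IDc : ℕ := 1461503031128807055631067903726780805968804446209

theorem IDc_chk : ∀ w z : F9, (IDc >>> (18 * idx z + 2 * idx w)) % 4 = if w = z then 1 else 0 := by
  decide +kernel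

theorem decM_IDc (ω : F) : decM ω IDc = 1 := by
  ext w z
  rw [decM_apply_of ω _ _ w z (IDc_chk w z), Matrix.one_apply]
  split_ifs <;> simp [dec4_zero, dec4_one]

theorem decM_xor {ω : F} (h : Hyp ω) (A B : ℕ) : decM ω (A ^^^ B) = decM ω A + decM ω B := by
  ext w z
  simp only [decM, Matrix.of_apply, Matrix.add_apply, ent_xor h]

theorem decM_mulw {ω : F} (h : Hyp ω) (A : ℕ) : decM ω (mulw A) = ω • decM ω A := by
  ext w z
  simp only [decM, Matrix.of_apply, Matrix.smul_apply, smul_eq_mul]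
  have e : 18 * idx z + 2 * idx w = 2 * (9 * idx z + idx w) := by ring
  have h1 := idx_lt z
  have h2 := idx_lt w
  rw [e, ent_mulw h _ _ (by omega)]

theorem decM_zero (ω : F) : decM ω 0 = 0 := by
  ext w z
  simp [decM, ent, bF]

theorem decV_xor {ω : F} (h : Hyp ω) (A B : ℕ) : decV ω (A ^^^ B) = decV ω A + decV ω B := by
  ext w
  simp only [decV, Pi.add_apply, ent_xor h]

theorem decV_mulw {ω : F} (h : Hyp ω) (A : ℕ) : decV ω (mulw A) = ω • decV ω A := by
  ext w
  simp only [decV, Pi.smul_apply, smul_eq_mul]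
  have h2 := idx_lt w
  rw [ent_mulw h _ _ (by omega)]

/-- the first column -/
theorem decM_mulVec_single (ω : F) (A : ℕ) :
    (decM ω A).mulVec (Pi.single (0 : F9) (1 : F)) = decV ω A := by
  ext w
  rw [Matrix.mulVec_single_one]
  simp [decM, decV, idx, Matrix.col_apply]

theorem decV_col (ω : F) (A : ℕ) : decV ω (col A 0) = decV ω A := by
  ext w
  have h2 := idx_lt w
  simp only [decV, ent]
  rw [testBit_col _ _ _ (by omega), testBit_col _ _ _ (by omega)]
  simp

/-! ### Injectivity of the decoding -/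

theorem Hyp.one_ne {ω : F} (_h : Hyp ω) : (1 : F) ≠ 0 := one_ne_zero

theorem Hyp.om_ne_zero {ω : F} (h : Hyp ω) : ω ≠ 0 := by
  intro h0
  have := h.om
  rw [h0] at this
  simp at this

theorem Hyp.om_ne_one {ω : F} (h : Hyp ω) : ω ≠ 1 := by
  intro h0
  have := h.om
  rw [h0, h.two] at this
  simp at this

theorem Hyp.one_add_om_ne_zero {ω : F} (h : Hyp ω) : 1 + ω ≠ 0 := by
  intro h0
  apply h.om_ne_one
  have : ω = ω + (1 + 1) := by rw [h.two, add_zero]
  rw [this]
  linear_combination h0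

theorem bits_of_eq {ω : F} (h : Hyp ω) (a b c d : Bool)
    (e : bF F a + bF F b * ω = bF F c + bF F d * ω) : a = c ∧ b = d := by
  have h1 := h.om_ne_zero
  have h2 := h.om_ne_one
  have h3 := h.one_add_om_ne_zero
  cases a <;> cases b <;> cases c <;> cases d <;> simp [bF] at e ⊢
  all_goals first
    | exact h1 e
    | exact h1 e.symm
    | exact h2 e
    | exact h2 e.symm
    | exact h3 e
    | exact h3 e.symm

theorem eq_of_ent_eq {ω : F} (h : Hyp ω) (n A B : ℕ) (hA : A < 2 ^ (2 * n)) (hB : B < 2 ^ (2 * n))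
    (e : ∀ k < n, ent ω A (2 * k) = ent ω B (2 * k)) : A = B := by
  apply Nat.eq_of_testBit_eq
  intro j
  by_cases hj : j < 2 * n
  · obtain ⟨e1, e2⟩ := bits_of_eq h _ _ _ _ (e (j / 2) (by omega))
    rcases Nat.mod_two_eq_zero_or_one j with hm | hm
    · have : 2 * (j / 2) = j := by omega
      rwa [this] at e1
    · have : 2 * (j / 2) + 1 = j := by omega
      rwa [this] at e2
  · have h1 : 2 ^ (2 * n) ≤ 2 ^ j := Nat.pow_le_pow_right (by norm_num) (by omega)
    rw [Nat.testBit_eq_false_of_lt (lt_of_lt_of_le hA h1),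
      Nat.testBit_eq_false_of_lt (lt_of_lt_of_le hB h1)]

def unidx (k : ℕ) : F9 := (((k / 3 : ℕ) : ZMod 3), ((k % 3 : ℕ) : ZMod 3))

theorem idx_unidx : ∀ k < 9, idx (unidx k) = k := by decide +kernel

theorem decV_injective {ω : F} (h : Hyp ω) {A B : ℕ} (hA : A < 2 ^ 18) (hB : B < 2 ^ 18)
    (e : decV ω A = decV ω B) : A = B := by
  apply eq_of_ent_eq h 9 A B hA hB
  intro k hk
  have := congrFun e (unidx k)
  simpa only [decV, idx_unidx k hk] using this

theorem decM_injective {ω : F} (h : Hyp ω) {A B : ℕ} (hA : A < 2 ^ 162) (hB : B < 2 ^ 162)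
    (e : decM ω A = decM ω B) : A = B := by
  apply eq_of_ent_eq h 81 A B hA hB
  intro k hk
  have := congrFun (congrFun e (unidx (k % 9))) (unidx (k / 9))
  simp only [decM, Matrix.of_apply, idx_unidx (k % 9) (Nat.mod_lt _ (by norm_num)),
    idx_unidx (k / 9) (by omega)] at this
  have e2 : 18 * (k / 9) + 2 * (k % 9) = 2 * k := by omega
  rwa [e2] at this

end

end Cfsg.Agent.Lib.Helper56.J3
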