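import Mathlib

/-!
A certificate-checking version of the Schreier–Sims algorithm.

`gen : ℕ → G` lists (strong) generators, `genSub gen n` is the subgroup generated by the first `n`
of them.  `schreier_step` computes the stabilizer of a base point in `genSub gen n` and the order
of `genSub gen n` from a script generated table of transversal words and Schreier generator
certificates, all of whose hypotheses are decidable for permutation groups.
-/

set_option autoImplicit false

namespace Cfsg.Agent.Lib.Helper56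

/-- A finite set of points closed under a set `T` is closed under `closure T`. -/
theorem smul_mem_of_mem_closure {G X : Type*} [Group G] [MulAction G X] {T : Set G}
    {S : Set X} (hS : S.Finite)
    (h : ∀ t ∈ T, ∀ q ∈ S, t • q ∈ S) {g : G} (hg : g ∈ Subgroup.closure T) {q : X} (hq : q ∈ S) :
    g • q ∈ S := by
  let K : Subgroup G :=
    { carrier := {g | ∀ q, g • q ∈ S ↔ q ∈ S}
      one_mem' := by intro q; simp
      mul_mem' := by
        intro a b ha hb q
        rw [mul_smul, ha, hb]
      inv_mem' := by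
        intro a ha q
        rw [← ha (a⁻¹ • q), smul_inv_smul] }
  have hTK : T ⊆ K := by
    intro t ht q
    refine ⟨fun hq => ?_, fun hq => h t ht q hq⟩
    have : Finite S := hS
    let f : S → S := fun s => ⟨t • s.1, h t ht s.1 s.2⟩
    have hf : Function.Injective f := by
      intro a b hab
      have : t • a.1 = t • b.1 := congrArg Subtype.val hab
      exact Subtype.ext (smul_left_cancel t this)
    obtain ⟨s, hs⟩ := Finite.surjective_of_injective hf ⟨t • q, hq⟩
    have : t • s.1 = t • q := congrArg Subtype.val hs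
    rw [← smul_left_cancel t this]
    exact s.2
  have hK : Subgroup.closure T ≤ K := by
    rw [Subgroup.closure_le]
    exact hTK
  exact (hK hg q).2 hq

section
variable {G : Type*} [Group G] (gen : ℕ → G)

/-- The subgroup generated by the first `n` generators. -/
def genSub (n : ℕ) : Subgroup G := Subgroup.closure {g | ∃ j : ℕ, j < n ∧ gen j = g}

/-- The product of a word in the generators. -/
def wordProd (w : List ℕ) : G := (w.map gen).prod

theorem gen_mem_genSub {n j : ℕ} (h : j < n) : gen j ∈ genSub gen n :=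
  Subgroup.subset_closure ⟨j, h, rfl⟩

theorem wordProd_mem {n : ℕ} {w : List ℕ} (h : ∀ i ∈ w, i < n) : wordProd gen w ∈ genSub gen n := by
  apply Subgroup.list_prod_mem
  intro x hx
  obtain ⟨i, hi, rfl⟩ := List.mem_map.1 hx
  exact gen_mem_genSub gen (h i hi)

theorem genSub_mono {n n' : ℕ} (h : n' ≤ n) : genSub gen n' ≤ genSub gen n := by
  apply Subgroup.closure_mono
  rintro g ⟨j, hj, rfl⟩
  exact ⟨j, lt_of_lt_of_le hj h, rfl⟩

theorem genSub_zero : genSub gen 0 = ⊥ := by
  rw [genSub, Subgroup.closure_eq_bot_iff]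
  rintro g ⟨j, hj, rfl⟩
  exact absurd hj (Nat.not_lt_zero j)

theorem genSub_le {n : ℕ} {K : Subgroup G} (h : ∀ j < n, gen j ∈ K) : genSub gen n ≤ K := by
  rw [genSub, Subgroup.closure_le]
  rintro g ⟨j, hj, rfl⟩
  exact h j hj

/-- One level of Schreier–Sims, from a certificate. -/
theorem schreier_step {α : Type*} [MulAction G α] [Finite G] (n n' : ℕ) (hn : n' ≤ n)
    (b : α) (Δ : Finset α) (word : α → List ℕ) (cert : ℕ → α → List ℕ)
    (hb : b ∈ Δ) (h1 : word b = [])
    (h2 : ∀ δ ∈ Δ, (∀ i ∈ word δ, i < n) ∧ wordProd gen (word δ) • b = δ)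
    (h3 : ∀ j < n', gen j • b = b)
    (h4 : ∀ j < n, ∀ δ ∈ Δ, gen j • δ ∈ Δ ∧ (∀ i ∈ cert j δ, i < n') ∧
      gen j * wordProd gen (word δ) = wordProd gen (word (gen j • δ)) * wordProd gen (cert j δ)) :
    (∀ g ∈ genSub gen n, g • b = b → g ∈ genSub gen n') ∧
      Nat.card (genSub gen n) = Δ.card * Nat.card (genSub gen n') := by
  set H := genSub gen n with hH
  set K := genSub gen n' with hK
  let U : α → G := fun δ => wordProd gen (word δ)
  have hUb : U b = 1 := by simp [U, h1, wordProd]
  let X : Set G := {g | ∃ δ ∈ Δ, ∃ k ∈ K, g = U δ * k}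
  have h1X : (1 : G) ∈ X := ⟨b, hb, 1, K.one_mem, by rw [hUb, one_mul]⟩
  have hcl : ∀ t ∈ {g | ∃ j : ℕ, j < n ∧ gen j = g}, ∀ q ∈ X, t • q ∈ X := by
    rintro t ⟨j, hj, rfl⟩ q ⟨δ, hδ, k, hk, rfl⟩
    obtain ⟨ha, hb', hc⟩ := h4 j hj δ hδ
    refine ⟨gen j • δ, ha, wordProd gen (cert j δ) * k, K.mul_mem (wordProd_mem gen hb') hk, ?_⟩
    rw [smul_eq_mul, ← mul_assoc, ← mul_assoc]
    exact congrArg (· * k) hc
  have hHX : ∀ g ∈ H, g ∈ X := by
    intro g hg
    have := smul_mem_of_mem_closure (X := G) (Set.toFinite X) hcl hg h1X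
    simpa using this
  have hKb : ∀ k ∈ K, k • b = b := by
    have : K ≤ MulAction.stabilizer G b := genSub_le gen (fun j hj => h3 j hj)
    intro k hk
    exact this hk
  have hact : ∀ δ ∈ Δ, ∀ k ∈ K, (U δ * k) • b = δ := by
    intro δ hδ k hk
    rw [mul_smul, hKb k hk]
    exact (h2 δ hδ).2
  refine ⟨?_, ?_⟩
  · intro g hg hgb
    obtain ⟨δ, hδ, k, hk, rfl⟩ := hHX g hg
    have : δ = b := by rw [← hact δ hδ k hk, hgb]
    subst this
    rw [hUb, one_mul]
    exact hk
  · let f : Δ × K → H := fun p =>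
      ⟨U p.1.1 * p.2.1, H.mul_mem (wordProd_mem gen (h2 p.1.1 p.1.2).1) (genSub_mono gen hn p.2.2)⟩
    have hf : Function.Bijective f := by
      constructor
      · rintro ⟨⟨δ, hδ⟩, ⟨k, hk⟩⟩ ⟨⟨δ', hδ'⟩, ⟨k', hk'⟩⟩ h
        have h' : U δ * k = U δ' * k' := congrArg Subtype.val h
        have hd : δ = δ' := by rw [← hact δ hδ k hk, h', hact δ' hδ' k' hk']
        subst hd
        have : k = k' := mul_left_cancel h'
        subst this
        rfl
      · rintro ⟨g, hg⟩
        obtain ⟨δ, hδ, k, hk, rfl⟩ := hHX g hg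
        exact ⟨⟨⟨δ, hδ⟩, ⟨k, hk⟩⟩, rfl⟩
    rw [← Nat.card_congr (Equiv.ofBijective f hf), Nat.card_prod]
    simp

end

/-- A group acting with one trivial point stabilizer on a set of the same size acts regularly. -/
theorem regular_of_card {G X : Type*} [Group G] [MulAction G X] [Finite X] (x0 : X)
    (h : MulAction.stabilizer G x0 = ⊥) (hc : Nat.card G = Nat.card X) :
    MulAction.IsPretransitive G X ∧ ∀ x : X, MulAction.stabilizer G x = ⊥ := by
  have hinj : Function.Injective (fun g : G => g • x0) := by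
    intro a b hab
    have : b⁻¹ * a ∈ MulAction.stabilizer G x0 := by
      rw [MulAction.mem_stabilizer_iff, mul_smul]
      have hab' : a • x0 = b • x0 := hab
      rw [hab', inv_smul_smul]
    rw [h, Subgroup.mem_bot] at this
    exact (inv_mul_eq_one.1 this).symm
  have hsurj : Function.Surjective (fun g : G => g • x0) :=
    (hinj.bijective_of_nat_card_le hc.ge).2
  refine ⟨⟨fun x y => ?_⟩, fun x => ?_⟩
  · obtain ⟨a, rfl⟩ := hsurj x
    obtain ⟨b, rfl⟩ := hsurj y
    exact ⟨b * a⁻¹, by simp [mul_smul]⟩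
  · obtain ⟨a, rfl⟩ := hsurj x
    rw [eq_bot_iff]
    intro g hg
    have hg' : g • a • x0 = a • x0 := hg
    have : a⁻¹ * g * a ∈ MulAction.stabilizer G x0 := by
      rw [MulAction.mem_stabilizer_iff, mul_smul, mul_smul, hg', inv_smul_smul]
    rw [h, Subgroup.mem_bot] at this
    rw [Subgroup.mem_bot]
    have h2 : g = a * (a⁻¹ * g * a) * a⁻¹ := by group
    rw [h2, this]
    simp

end Cfsg.Agent.Lib.Helper56
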