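import Mathlib
import Cfsg.Agent.Lib.Helper56.SchreierSims
import Cfsg.Agent.Lib.Helper1.CoprimeSylow
import Cfsg.Agent.Lib.Helper75.SelfCent

/-!
Abstract lemmas for table driven Schreier–Sims (helper56) and a simplicity criterion from an element
of prime order with small centralizer.
-/

set_option autoImplicit false

namespace Cfsg.Agent.Lib.Helper56

/-- Binary splitting `∀ i ∈ [lo, lo + 2 ^ k), f i`, of logarithmic recursion depth. -/
def allB (f : ℕ → Bool) : ℕ → ℕ → Bool
  | 0, lo => f lo
  | k + 1, lo => allB f k lo && allB f k (lo + 2 ^ k)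

theorem allB_spec (f : ℕ → Bool) : ∀ (k lo : ℕ), allB f k lo = true →
    ∀ i, lo ≤ i → i < lo + 2 ^ k → f i = true := by
  intro k
  induction k with
  | zero =>
    intro lo h i h1 h2
    have : i = lo := by simp at h2; omega
    subst this
    exact h
  | succ k ih =>
    intro lo h i h1 h2
    rw [allB, Bool.and_eq_true] at h
    by_cases hi : i < lo + 2 ^ k
    · exact ih lo h.1 i h1 hi
    · exact ih _ h.2 i (by omega) (by rw [pow_succ] at h2; omega)

/-- Descent along a depth function. -/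
theorem descent {α : Type*} (P : α → Prop) (depth : α → ℕ)
    (h : ∀ a, (∀ b, depth b < depth a → P b) → P a) : ∀ a, P a := by
  intro a
  induction hn : depth a using Nat.strong_induction_on generalizing a with
  | _ n ih =>
    apply h
    intro b hb
    exact ih (depth b) (hn ▸ hb) b rfl

section table
variable {G : Type*} [Group G] [Finite G]

/-- The cosets `U i * L`, `i < N`, cover the group generated by `T`. -/
theorem mem_table_of_mem_closure {T : Set G} {L : Subgroup G} {N : ℕ} {U : ℕ → G} {i0 : ℕ}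
    (hi0 : i0 < N) (h0 : U i0 = 1)
    (hstep : ∀ t ∈ T, ∀ i < N, ∃ j < N, ∃ l ∈ L, t * U i = U j * l) {g : G}
    (hg : g ∈ Subgroup.closure T) : ∃ i < N, ∃ l ∈ L, g = U i * l := by
  let X : Set G := {g | ∃ i < N, ∃ l ∈ L, g = U i * l}
  have h1X : (1 : G) ∈ X := ⟨i0, hi0, 1, L.one_mem, by rw [h0, one_mul]⟩
  have hcl : ∀ t ∈ T, ∀ q ∈ X, t • q ∈ X := by
    rintro t ht q ⟨i, hi, l, hl, rfl⟩
    obtain ⟨j, hj, l', hl', e⟩ := hstep t ht i hi
    refine ⟨j, hj, l' * l, L.mul_mem hl' hl, ?_⟩
    rw [smul_eq_mul, ← mul_assoc, e, mul_assoc]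
  have h := smul_mem_of_mem_closure (X := G) (Set.toFinite X) hcl hg h1X
  rw [smul_eq_mul, mul_one] at h
  exact h

/-- The order of the group generated by `T` from a coset table. -/
theorem card_closure_of_table {T : Set G} {L : Subgroup G} {N : ℕ} {U : ℕ → G} {i0 : ℕ}
    (hi0 : i0 < N) (h0 : U i0 = 1)
    (hstep : ∀ t ∈ T, ∀ i < N, ∃ j < N, ∃ l ∈ L, t * U i = U j * l)
    (hU : ∀ i < N, U i ∈ Subgroup.closure T) (hL : L ≤ Subgroup.closure T)
    (hinj : ∀ i < N, ∀ i' < N, ∀ l ∈ L, ∀ l' ∈ L, U i * l = U i' * l' → i = i') :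
    Nat.card (Subgroup.closure T) = N * Nat.card L := by
  let f : Fin N × L → Subgroup.closure T := fun p =>
    ⟨U p.1 * p.2.1, Subgroup.mul_mem _ (hU _ p.1.2) (hL p.2.2)⟩
  have hf : Function.Bijective f := by
    constructor
    · rintro ⟨⟨i, hi⟩, ⟨l, hl⟩⟩ ⟨⟨i', hi'⟩, ⟨l', hl'⟩⟩ h
      have h' : U i * l = U i' * l' := congrArg Subtype.val h
      have hd : i = i' := hinj i hi i' hi' l hl l' hl' h'
      subst hd
      have : l = l' := mul_left_cancel h'
      subst this
      rfl
    · rintro ⟨g, hg⟩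
      obtain ⟨i, hi, l, hl, rfl⟩ := mem_table_of_mem_closure hi0 h0 hstep hg
      exact ⟨⟨⟨i, hi⟩, ⟨l, hl⟩⟩, rfl⟩
  rw [← Nat.card_congr (Equiv.ofBijective f hf), Nat.card_prod]
  simp

end table

universe u

/-- Normal subgroups of a group with an element `x` of prime order `p`, `p ∥ |G|`, whose centralizer
is `⟨x⟩ Z` with `Z` central: under a numerical condition each of them lies in `Z` or contains `x`. -/
theorem normal_le_or_mem {G : Type u} [Group G] [Finite G] (p : ℕ) [hp : Fact p.Prime] (x : G)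
    (Z : Subgroup G) (hx : orderOf x = p) (hp2 : ¬ p ^ 2 ∣ Nat.card G)
    (hC : ∀ g : G, g * x = x * g → ∃ k : ℕ, ∃ z ∈ Z, g = x ^ k * z)
    (hZc : ∀ z ∈ Z, ∀ g : G, z * g = g * z) (hZp : ¬ p ∣ Nat.card Z)
    (hnum : ∀ r a d : ℕ, r.Prime → r ≠ p → r ^ a ∣ Nat.card G → d ∣ Nat.card Z → d ∣ r ^ a →
      r ^ a ≡ d [MOD p] → r ^ a = d)
    (N : Subgroup G) [hN : N.Normal] : N ≤ Z ∨ x ∈ N := by
  have hxp : x ^ p = 1 := by rw [← hx]; exact pow_orderOf_eq_one x
  by_cases hpN : p ∣ Nat.card N
  · right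
    have hidx : ¬ p ∣ N.index := by
      intro h
      apply hp2
      rw [← N.card_mul_index, pow_two]
      exact Nat.mul_dvd_mul hpN h
    have hcop : Nat.Coprime p N.index := (Nat.Prime.coprime_iff_not_dvd hp.out).2 hidx
    have h1 : ((x : G ⧸ N)) ^ p = 1 := by
      rw [← QuotientGroup.mk_pow, hxp]; rfl
    have h2 : ((x : G ⧸ N)) ^ N.index = 1 := by
      rw [Subgroup.index_eq_card]; exact pow_card_eq_one'
    have h3 : ((x : G ⧸ N)) ^ (Nat.gcd p N.index) = 1 := by
      rw [← orderOf_dvd_iff_pow_eq_one] at h1 h2 ⊢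
      exact Nat.dvd_gcd h1 h2
    rw [hcop, pow_one] at h3
    exact (QuotientGroup.eq_one_iff x).1 h3
  · left
    have key : Nat.card N ∣ Nat.card (N ⊓ Z : Subgroup G) := by
      rw [Nat.dvd_iff_prime_pow_dvd_dvd]
      intro r k hr hrk
      rcases Nat.eq_zero_or_pos k with rfl | hk
      · simp
      have hrN : r ∣ Nat.card N := dvd_trans (dvd_pow_self r hk.ne') hrk
      have hrp : r ≠ p := by rintro rfl; exact hpN hrN
      have : Fact r.Prime := ⟨hr⟩
      have hA : Subgroup.zpowers x ≤ Subgroup.normalizer (N : Set G) := by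
        rw [Subgroup.normalizer_eq_top]; exact le_top
      have hcardA : Nat.card (Subgroup.zpowers x) = p := by rw [Nat.card_zpowers, hx]
      have hcop : (Nat.card (Subgroup.zpowers x)).Coprime (Nat.card N) := by
        rw [hcardA]; exact (Nat.Prime.coprime_iff_not_dvd hp.out).2 hpN
      obtain ⟨P, hPN, hP, hPi, hPn⟩ := Cfsg.Agent.Lib.Helper1.exists_invariant_sylow
        (Subgroup.zpowers x) N hA hcop (Or.inl inferInstance) r
      obtain ⟨a, ha⟩ := hP.exists_card_eq
      have hxP : ∀ y ∈ (P : Set G), x * y * x⁻¹ ∈ (P : Set G) := by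
        intro y hy
        exact (Subgroup.mem_normalizer_iff.1 (hPn (Subgroup.mem_zpowers x)) y).1 hy
      have hmod := Cfsg.Agent.Lib.Helper75.card_modEq_card_fixed hp.out hxp (P : Set G) hxP
      have hfix : Nat.card {y : (P : Set G) // x * (y : G) * x⁻¹ = y}
          = Nat.card (P ⊓ Z : Subgroup G) := by
        refine Nat.card_congr ⟨fun y => ⟨y.1.1, y.1.2, ?_⟩, fun y => ⟨⟨y.1, y.2.1⟩, ?_⟩,
          fun y => rfl, fun y => rfl⟩
        · obtain ⟨⟨y, hyP⟩, hy⟩ := y
          have hy' : y * x = x * y := by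
            have : x * y * x⁻¹ = y := hy
            rw [mul_inv_eq_iff_eq_mul] at this
            exact this.symm
          obtain ⟨k, z, hz, e⟩ := hC y hy'
          show y ∈ Z
          set m := Nat.card Z with hm
          have hzm : z ^ m = 1 := by
            have : (⟨z, hz⟩ : Z) ^ Nat.card Z = 1 := pow_card_eq_one'
            exact congrArg Subtype.val this
          have hcomm : Commute (x ^ k) z := ((hZc z hz (x ^ k))).symm
          have hym : y ^ m = x ^ (k * m) := by
            rw [e, hcomm.mul_pow, hzm, mul_one, pow_mul]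
          have hmem : x ^ (k * m) ∈ N := by
            rw [← hym]; exact N.pow_mem (hPN hyP) m
          have h1 : (x ^ (k * m)) ^ p = 1 := by
            rw [← pow_mul, mul_comm, pow_mul, hxp, one_pow]
          have h2 : (x ^ (k * m)) ^ Nat.card N = 1 := by
            have : (⟨x ^ (k * m), hmem⟩ : N) ^ Nat.card N = 1 := pow_card_eq_one'
            exact congrArg Subtype.val this
          have h3 : (x ^ (k * m)) ^ (Nat.gcd p (Nat.card N)) = 1 := by
            rw [← orderOf_dvd_iff_pow_eq_one] at h1 h2 ⊢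
            exact Nat.dvd_gcd h1 h2
          rw [(Nat.Prime.coprime_iff_not_dvd hp.out).2 hpN, pow_one] at h3
          have h4 : p ∣ k * m := by rw [← hx]; exact orderOf_dvd_of_pow_eq_one h3
          have h5 : p ∣ k := (hp.out.dvd_mul.1 h4).resolve_right hZp
          have h6 : x ^ k = 1 := by
            obtain ⟨c, rfl⟩ := h5
            rw [pow_mul, hxp, one_pow]
          rw [e, h6, one_mul]
          exact hz
        · obtain ⟨y, hyP, hyZ⟩ := y
          show x * y * x⁻¹ = y
          rw [← hZc y hyZ x, mul_inv_cancel_right]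
      have hcardP : Nat.card (P : Set G) = r ^ a := ha
      rw [hfix, hcardP] at hmod
      have hd1 : Nat.card (P ⊓ Z : Subgroup G) ∣ Nat.card Z := Subgroup.card_dvd_of_le inf_le_right
      have hd2 : Nat.card (P ⊓ Z : Subgroup G) ∣ r ^ a := by
        rw [← ha]; exact Subgroup.card_dvd_of_le inf_le_left
      have hd3 : r ^ a ∣ Nat.card G := by rw [← ha]; exact Subgroup.card_subgroup_dvd_card P
      have heq := hnum r a _ hr hrp hd3 hd1 hd2 hmod
      have hPZ : P ⊓ Z = P := by
        apply Subgroup.eq_of_le_of_card_ge inf_le_left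
        rw [ha, heq]
      have hPZ' : P ≤ N ⊓ Z := le_inf hPN (hPZ ▸ inf_le_right)
      have h7 : r ^ k ∣ Nat.card P := by
        have h8 := Subgroup.relIndex_mul_relIndex (⊥ : Subgroup G) P N bot_le hPN
        rw [Subgroup.relIndex_bot_left, Subgroup.relIndex_bot_left] at h8
        rw [← h8] at hrk
        have h9 : Nat.Coprime (r ^ k) (P.relIndex N) :=
          Nat.Coprime.pow_left k ((Nat.Prime.coprime_iff_not_dvd hr).2 hPi)
        exact h9.dvd_of_dvd_mul_right hrk
      exact dvd_trans h7 (Subgroup.card_dvd_of_le hPZ')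
    have : N ⊓ Z = N := by
      apply Subgroup.eq_of_le_of_card_ge inf_le_left
      exact Nat.le_of_dvd Nat.card_pos key
    exact this ▸ inf_le_right

end Cfsg.Agent.Lib.Helper56
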