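import Mathlib
import Cfsg.Agent.Lib.Helper56.MatSS
import Cfsg.Agent.Lib.Helper56.J3Code
import Cfsg.Agent.Lib.Helper56.J3DataU
import Cfsg.Agent.Lib.Helper56.J3DataW

set_option autoImplicit false

namespace Cfsg.Agent.Lib.Helper56.J3

def NN : ℕ := 23256
def n1 : ℕ := 6480
def a0 : ℕ := 4212

/-- top level Schreier check: `t * U i = U j * W a`. -/
def chk0 (t : ℕ) (C : ℕ → ℕ) (i : ℕ) : Bool :=
  Nat.blt (C i >>> 13) NN && Nat.blt (C i &&& 8191) n1 &&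
    Nat.beq (mulCode t (Utab i)) (mulCode (Utab (C i >>> 13)) (Wtab (C i &&& 8191)))

def f0 (t : ℕ) (C : ℕ → ℕ) (i : ℕ) : Bool := Nat.ble NN i || chk0 t C i

/-- the Schreier tree of the top level -/
def chkT (i : ℕ) : Bool :=
  Nat.beq i 0 ||
    (Nat.blt (Ttab i >>> 6) NN && Nat.blt (Ttab (Ttab i >>> 6) &&& 31) (Ttab i &&& 31) &&
      Nat.beq ((bif (Ttab i).testBit 5 then Ctab1 (Ttab i >>> 6) else Ctab0 (Ttab i >>> 6)) >>> 13) i &&
      Nat.beq ((bif (Ttab i).testBit 5 then Ctab1 (Ttab i >>> 6) else Ctab0 (Ttab i >>> 6)) &&& 8191)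
        a0)

def fT (i : ℕ) : Bool := Nat.ble NN i || chkT i

/-- canonical multiple of a vector -/
def canon (v : ℕ) : ℕ := min v (min (mulw v) (v ^^^ mulw v))

def key (i : ℕ) : ℕ := canon (col (Utab i) 0)

def fK (i : ℕ) : Bool := Nat.ble NN (i + 1) || Nat.blt (key i) (key (i + 1))

/-- second level: `s * W a = W (D a)` -/
def chk1 (s : ℕ) (D : ℕ → ℕ) (a : ℕ) : Bool :=
  Nat.blt (D a) n1 && Nat.beq (mulCode s (Wtab a)) (Wtab (D a))

def f1 (s : ℕ) (D : ℕ → ℕ) (a : ℕ) : Bool := Nat.ble n1 a || chk1 s D a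

def chkT1 (a : ℕ) : Bool :=
  Nat.beq a a0 ||
    (Nat.blt (Ttab1 a >>> 6) n1 && Nat.blt (Ttab1 (Ttab1 a >>> 6) &&& 31) (Ttab1 a &&& 31) &&
      Nat.beq (bif (Ttab1 a).testBit 5 then Dtab1 (Ttab1 a >>> 6) else Dtab0 (Ttab1 a >>> 6)) a)

def fT1 (a : ℕ) : Bool := Nat.ble n1 a || chkT1 a

def fS1 (a : ℕ) : Bool := Nat.ble n1 (a + 1) || Nat.blt (Wtab a) (Wtab (a + 1))

/-- the elements of the second level fix the line of the first basis vector -/
def fL (a : ℕ) : Bool := Nat.ble n1 a || (Nat.blt 0 (col (Wtab a) 0) && Nat.blt (col (Wtab a) 0) 4)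

theorem forall_of_blocks (f : ℕ → Bool) (k nb : ℕ) (h : ∀ b < nb, allB f k (2 ^ k * b) = true) :
    ∀ i < 2 ^ k * nb, f i = true := by
  intro i hi
  have hb : i / 2 ^ k < nb := by
    rw [Nat.div_lt_iff_lt_mul (by positivity)]
    rwa [Nat.mul_comm]
  have h1 := Nat.div_add_mod i (2 ^ k)
  have h2 := Nat.mod_lt i (show 0 < 2 ^ k by positivity)
  exact allB_spec f k _ (h _ hb) i (by omega) (by omega)

end Cfsg.Agent.Lib.Helper56.J3
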