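import Mathlib
import Cfsg.Agent.Lib.Helper56.J3ChkDef

set_option autoImplicit false

namespace Cfsg.Agent.Lib.Helper56.J3

open Cfsg.Spor

def cA (Z : F9) : ℕ := [1461503031128807055631067903726780805968804446209, 4384507699587187802737686324524017305624869076993, 2923007456052859791430298446487716538524491579393, 4384509093386421165625551902025140478076903227393, 2923004668462368429826324986041663592707278241793, 1461504424928040422321885281912592186209486241793, 2923006062257614112529787616608763548468580974593, 1461505818723286101222396111795003940779214241793, 4384506305791942120034223693960376111078852001793].getD (idx Z) 0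
def sA (Z : F9) : ℕ := [4212, 5735, 4987, 5749, 4974, 4229, 4982, 4234, 5727].getD (idx Z) 0
def cE (Z : F9) : ℕ := [4384509093385091938897418795306285688242013470721, 4384507699589846258729256156272130761655130783746, 2923007456055518247421868278235829994554753286146, 4384509093385091937629766986151083751711041388546, 4384507699589846257461604347116928825124158701571, 2923007456055518246154216469080628058023781203971, 2923006062256284884534002700734706822102719135746, 2923004668461039204365840061700551895515836448771, 1461504424926711193058452183664251128415458951171].getD (idx Z) 0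
def sE (Z : F9) : ℕ := [5747, 5741, 4993, 5746, 5740, 4992, 4979, 4973, 4225].getD (idx Z) 0
def cD (Z : F9) : ℕ := [1461503031128807055631067903726780805968804446209, 91355002711097609761683403024230640381161635844, 1096126576468588564260134467363287536591316451344, 356812263459424798826679781206570936911790144, 22302106331897600451176910379340992077627648, 89203065875119098946776039567202620318680064, 45671991500825934221291334818877127128460038144, 1427334805074968392279505432699551429720817664, 5708996215674017263146553140391472218643693568].getD (idx Z) 0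
def sD (Z : F9) : ℕ := [4212, 14647, 20062, 25692, 258437, 931678, 2704395, 12223572, 47844731].getD (idx Z) 0
def cB (Z : F9) : ℕ := [22300830269446873167754772512960987242168321, 22841538269600183366566515577973363403344838657, 365375431110798591694840753852201429328080142337, 1461503031128807055631067903726780805968804446209, 89208446579646230742688728938313611403591681, 1427249059152339552922906303269755944372797441, 5709077883130560754633018547490350649206374401, 91343852673796106327422337631537158769732485121, 357160372403293840215897814339887545723125761].getD (idx Z) 0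
def sB (Z : F9) : ℕ := [0, 1053, 3402, 4212, 0, 162, 972, 1134, 81].getD (idx Z) 0
def cC (Z : F9) : ℕ := [22300830269446873167754772512960987242168321, 1849718693824932450194110081778504312150522068993, 393927353949146223126551266079578021185060864001, 1832593093529640241284613252804085390638190690305, 1873616836352837942308958220148847775685017601, 93127919116676624355383199527206458862495334401, 1490048093873290259736049974451170124074533781505, 92860653183904713176475194505967125169333862401, 91790222518859982379744139180932915806181785601].getD (idx Z) 0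
def sC (Z : F9) : ℕ := [0, 4563, 3429, 4482, 189, 1485, 4239, 1404, 1161].getD (idx Z) 0
def cD02i : ℕ := 91355002711097609761683403024230640381161635844
def cD12i : ℕ := 1427334805074968392279505432699551429720817664

/-! ### The entries of the generating matrices, as codes -/

def wp (n : ZMod 3) : ℕ := if n = 0 then 1 else if n = 1 then 2 else 3

def eA (Z w z : F9) : ℕ := if w = z then wp (Z.1 * w.1 + Z.2 * w.2) else 0
def eE (Z w z : F9) : ℕ := if w = z then wp ((Z.1 - w.1) ^ 2 + (Z.2 - w.2) ^ 2) else 0
def lamC (Z z : F9) : ℕ :=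
  if z = 0 then 1
  else if F9.div Z z = F9.I - F9.one then 2
  else if F9.div Z z = -F9.I - F9.one then 3
  else 1
def eD (Z w z : F9) : ℕ := if w = z + Z then lamC Z z else 0
def eB (Z w z : F9) : ℕ := if w = F9.mul Z z then 1 else 0
def eC (Z w z : F9) : ℕ :=
  if z = 0 then (if w = 0 then 1 else 0)
  else if w = -F9.div Z z ∨ w = F9.mul F9.I (F9.div Z z) ∨ w = -F9.mul F9.I (F9.div Z z) then 1 else 0

theorem cA_chk : ∀ Z w z : F9, (cA Z >>> (18 * idx z + 2 * idx w)) % 4 = eA Z w z := by
  decide +kernel
theorem cE_chk : ∀ Z w z : F9, (cE Z >>> (18 * idx z + 2 * idx w)) % 4 = eE Z w z := by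
  decide +kernel
theorem cD_chk : ∀ Z w z : F9, (cD Z >>> (18 * idx z + 2 * idx w)) % 4 = eD Z w z := by
  decide +kernel
theorem cB_chk : ∀ Z w z : F9, (cB Z >>> (18 * idx z + 2 * idx w)) % 4 = eB Z w z := by
  decide +kernel
theorem cC_chk : ∀ Z w z : F9, (cC Z >>> (18 * idx z + 2 * idx w)) % 4 = eC Z w z := by
  decide +kernel

section
variable {F : Type*} [Field F] {ω : F}

theorem dec4_wp (h : Hyp ω) (n : ZMod 3) : dec4 ω (wp n) = omegaPow F ω n := by
  have h2 : ω ^ 2 = 1 + ω := by rw [pow_two, h.om, add_comm]
  have w0 : wp 0 = 1 := by decide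
  have w1 : wp 1 = 2 := by decide
  have w2 : wp 2 = 3 := by decide
  have v0 : (0 : ZMod 3).val = 0 := rfl
  have v1 : (1 : ZMod 3).val = 1 := rfl
  have v2 : (2 : ZMod 3).val = 2 := rfl
  have hn : n = 0 ∨ n = 1 ∨ n = 2 := by revert n; decide
  rcases hn with rfl | rfl | rfl
  · rw [w0, omegaPow, v0, pow_zero, dec4_one]
  · rw [w1, omegaPow, v1, pow_one, dec4_two]
  · rw [w2, omegaPow, v2, h2, dec4_three]

theorem decM_cA (h : Hyp ω) (Z : F9) : decM ω (cA Z) = j3A F ω Z := by
  ext w z
  rw [decM_apply_of ω _ _ w z (cA_chk Z w z), j3A, Matrix.diagonal_apply, eA]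
  split_ifs
  · exact dec4_wp h _
  · exact dec4_zero ω

theorem decM_cE (h : Hyp ω) (Z : F9) : decM ω (cE Z) = j3E F ω Z := by
  ext w z
  rw [decM_apply_of ω _ _ w z (cE_chk Z w z), j3E, Matrix.diagonal_apply, eE]
  split_ifs
  · exact dec4_wp h _
  · exact dec4_zero ω

theorem dec4_lamC (h : Hyp ω) (Z z : F9) : dec4 ω (lamC Z z) = j3Lam F ω Z z := by
  have h2 : ω ^ 2 = 1 + ω := by rw [pow_two, h.om, add_comm]
  rw [lamC, j3Lam]
  split_ifs
  · exact dec4_one ω
  · exact dec4_two ω
  · rw [dec4_three, h2]
  · exact dec4_one ω

theorem decM_cD (h : Hyp ω) (Z : F9) : decM ω (cD Z) = j3D F ω Z := by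
  ext w z
  rw [decM_apply_of ω _ _ w z (cD_chk Z w z), j3D, Matrix.of_apply, eD]
  split_ifs
  · exact dec4_lamC h _ _
  · exact dec4_zero ω

theorem decM_cB (Z : F9) : decM ω (cB Z) = j3B F Z := by
  ext w z
  rw [decM_apply_of ω _ _ w z (cB_chk Z w z), j3B, Matrix.of_apply, eB]
  split_ifs
  · exact dec4_one ω
  · exact dec4_zero ω

theorem decM_cC (Z : F9) : decM ω (cC Z) = j3C F Z := by
  ext w z
  rw [decM_apply_of ω _ _ w z (cC_chk Z w z), j3C, Matrix.of_apply, eC]
  split_ifs
  · exact dec4_one ω
  · exact dec4_zero ω
  · exact dec4_one ω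
  · exact dec4_zero ω

end

/-! ### Sifting the generators, and the two generators of order 19 as words -/

def siftOK (s c : ℕ) : Bool :=
  Nat.blt (s >>> 13) NN && Nat.blt (s &&& 8191) n1 &&
    Nat.beq (mulCode (Utab (s >>> 13)) (Wtab (s &&& 8191))) c

theorem sift_A : ∀ Z : F9, siftOK (sA Z) (cA Z) = true := by decide +kernel
theorem sift_E : ∀ Z : F9, siftOK (sE Z) (cE Z) = true := by decide +kernel
theorem sift_D : ∀ Z : F9, siftOK (sD Z) (cD Z) = true := by decide +kernel
theorem sift_B : ∀ Z : F9, Z ≠ 0 → siftOK (sB Z) (cB Z) = true := by decide +kernel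
theorem sift_C : ∀ Z : F9, Z ≠ 0 → siftOK (sC Z) (cC Z) = true := by decide +kernel

theorem words_chk :
    t0c = mulCode (mulCode (cD (0, 2)) (cD (1, 2))) (cC (1, 0)) ∧
    t1c = mulCode (mulCode (cC (0, 1)) t0c) (cC (0, 1)) ∧
    mulCode (cD (0, 2)) cD02i = IDc ∧ mulCode cD02i (cD (0, 2)) = IDc ∧
    mulCode (cD (1, 2)) cD12i = IDc ∧ mulCode cD12i (cD (1, 2)) = IDc ∧
    mulCode (cC (1, 0)) (cC (1, 0)) = IDc ∧ mulCode (cC (0, 1)) (cC (0, 1)) = IDc := by
  decide +kernel

end Cfsg.Agent.Lib.Helper56.J3
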