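import Mathlib
import Cfsg.Agent.Lib.Helper56.J3ChkDef
import Cfsg.Agent.Lib.Helper56.J3IsoData

set_option autoImplicit false

namespace Cfsg.Agent.Lib.Helper56.J3

/-- parity of the weight of a vector -/
def par9 (v : ℕ) : ℕ :=
  let x := v ||| (v >>> 1)
  let y := x ^^^ (x >>> 8) ^^^ (x >>> 16)
  let z := y ^^^ (y >>> 4)
  (z ^^^ (z >>> 2)) &&& 1

/-- evaluate the argument first -/
def force (x : ℕ) (f : ℕ → Bool) : Bool :=
  match x with
  | 0 => f 0
  | n + 1 => f (n + 1)

theorem force_eq (x : ℕ) (f : ℕ → Bool) : force x f = f x := by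
  cases x <;> rfl

def forceN (x : ℕ) (f : ℕ → ℕ) : ℕ :=
  match x with
  | 0 => f 0
  | n + 1 => f (n + 1)

theorem forceN_eq (x : ℕ) (f : ℕ → ℕ) : forceN x f = f x := by
  cases x <;> rfl

/-- a faster version of `canon` -/
def canonF (v : ℕ) : ℕ :=
  forceN (mulw v) fun m => forceN (v ^^^ m) fun x =>
    bif Nat.ble v m then (bif Nat.ble v x then v else x) else (bif Nat.ble m x then m else x)

theorem canonF_eq (v : ℕ) : canonF v = canon v := by
  simp only [canonF, forceN_eq, canon]
  generalize mulw v = m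
  generalize v ^^^ m = x
  cases h1 : Nat.ble v m <;> cases h2 : Nat.ble v x <;> cases h3 : Nat.ble m x <;>
    simp only [cond_true, cond_false] <;>
    simp only [Nat.ble_eq, ← Bool.not_eq_true] at h1 h2 h3 <;> omega

def stepI (v : ℕ) : ℕ :=
  forceN (bif Nat.ble 32 (Itab v) then mulCode t1c v else mulCode t0c v) fun m =>
    forceN (col m 0) canonF

def chkI (v : ℕ) : Bool :=
  !(Nat.beq (canonF v) v) || Nat.beq (par9 v) 1 || Nat.beq v 0 || Nat.beq v 5 ||
    force (stepI v) fun u =>
      Nat.beq (par9 u) 0 && Nat.blt 0 u && Nat.blt (Itab u &&& 31) (Itab v &&& 31)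

theorem cI_0 : allB chkI 15 (2 ^ 15 * 0) = true := by decide +kernel
theorem cI_1 : allB chkI 15 (2 ^ 15 * 1) = true := by decide +kernel
theorem cI_2 : allB chkI 15 (2 ^ 15 * 2) = true := by decide +kernel
theorem cI_3 : allB chkI 15 (2 ^ 15 * 3) = true := by decide +kernel
theorem cI_4 : allB chkI 15 (2 ^ 15 * 4) = true := by decide +kernel
theorem cI_5 : allB chkI 15 (2 ^ 15 * 5) = true := by decide +kernel
theorem cI_6 : allB chkI 15 (2 ^ 15 * 6) = true := by decide +kernel
theorem cI_7 : allB chkI 15 (2 ^ 15 * 7) = true := by decide +kernel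

theorem cI : ∀ v < 2 ^ 18, chkI v = true := by
  intro v hv
  exact forall_of_blocks chkI 15 8 (by
    intro b hb
    interval_cases b
    · exact cI_0
    · exact cI_1
    · exact cI_2
    · exact cI_3
    · exact cI_4
    · exact cI_5
    · exact cI_6
    · exact cI_7) v (by norm_num at hv ⊢; exact hv)

end Cfsg.Agent.Lib.Helper56.J3
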