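import Mathlib
import Cfsg.Agent.Lib.Helper56.J3Gens
import Cfsg.Agent.Lib.Helper56.J3IsoChk
import Cfsg.Agent.Lib.Helper56.J3InvData
import Cfsg.Agent.Lib.Helper56.J3InvDataC

/-! Check functions for the involution centralizer of `J₃` (helper56). -/

set_option autoImplicit false

namespace Cfsg.Agent.Lib.Helper56.J3

def chkQQ (n : ℕ) : Bool :=
  Nat.beq (mulCode (Qc (n >>> 5)) (Qc (n &&& 31))) (Qc (mQ (n >>> 5) (n &&& 31)))

def chkHH (n : ℕ) : Bool :=
  Nat.ble 3600 n || Nat.beq (mulCode (Hc (n / 60)) (Hc (n % 60))) (Hc (mH (n / 60) (n % 60)))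

def chkHQ (n : ℕ) : Bool :=
  Nat.ble 1920 n || Nat.beq (mulCode (Hc (n >>> 5)) (Qc (n &&& 31)))
    (mulCode (Qc (actT (n >>> 5) (n &&& 31))) (Hc (n >>> 5)))

/-- `Ctab j` is the conjugate of `Ctab p` under the generator with code `t`. -/
def stepC (t p j : ℕ) : Bool :=
  Nat.blt p NC && Nat.blt (Ptab p &&& 31) (Ptab j &&& 31) &&
    Nat.beq (mulCode t (Ctab p)) (mulCode (Ctab j) t)

def chkC (j : ℕ) : Bool :=
  Nat.beq j tIdx || force (Ptab j) fun e =>
    bif Nat.ble 32 (e &&& 63) then stepC t1c (e >>> 6) j else stepC t0c (e >>> 6) j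

def fC (j : ℕ) : Bool := Nat.ble NC j || chkC j

def fCm (j : ℕ) : Bool := Nat.ble NC (j + 1) || Nat.blt (Ctab j) (Ctab (j + 1))

end Cfsg.Agent.Lib.Helper56.J3
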