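import Mathlib
import Cfsg.Agent.Lib.Helper56.J3InvDef

set_option autoImplicit false

namespace Cfsg.Agent.Lib.Helper56.J3

theorem cQQ_raw : allB chkQQ 10 0 = true := by decide +kernel
theorem cHH_raw : allB chkHH 12 0 = true := by decide +kernel
theorem cHQ_raw : allB chkHQ 11 0 = true := by decide +kernel
theorem cCm_raw : allB fCm 15 0 = true := by decide +kernel

theorem sift_Q : ∀ i < 32, siftOK (sQ i) (Qc i) = true := by decide +kernel
theorem sift_H : ∀ a < 60, siftOK (sH a) (Hc a) = true := by decide +kernel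

theorem Qc_inj : ∀ i < 32, ∀ j < 32, Qc i = Qc j → i = j := by decide +kernel
theorem Hc_inj : ∀ a < 60, ∀ b < 60, Hc a = Hc b → a = b := by decide +kernel
theorem QH_inj : ∀ i < 32, ∀ a < 60, Qc i = Hc a → i = 0 ∧ a = 0 := by decide +kernel

theorem inv_misc : Qc 0 = IDc ∧ Hc 0 = IDc ∧ Ctab tIdx = Qc 1 ∧ tIdx < NC := by decide +kernel

theorem jT_chk : ∀ i < 32, ∀ a < 4, mQ i (actT a i) = 0 → (i ≠ 0 ∨ a ≠ 0) →
    jT (4 * i + a) < NC ∧ mulCode (Qc i) (Hc a) = Ctab (jT (4 * i + a)) := by decide +kernel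

/-! ### Facts on the index tables -/

theorem mQ_lt : ∀ i < 32, ∀ j < 32, mQ i j < 32 := by decide +kernel
theorem mH_lt : ∀ a < 60, ∀ b < 60, mH a b < 60 := by decide +kernel
theorem actT_lt : ∀ a < 60, ∀ i < 32, actT a i < 32 := by decide +kernel
theorem ptT_lt : ∀ a < 60, ∀ k < 5, ptT a k < 5 := by decide +kernel

theorem wQ_chk : ∀ i < 32, wQ i >>> 5 < 32 ∧ wQ i &&& 31 < 32 ∧ mQ (wQ i >>> 5) (wQ i >>> 5) = 0 ∧
    mQ (wQ i &&& 31) (wQ i &&& 31) = 0 ∧ mQ (wQ i >>> 5) (wQ i &&& 31) = i := by decide +kernel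

theorem wH_chk : ∀ a < 60, wH a >>> 6 < 60 ∧ wH a &&& 63 < 60 ∧ mH (wH a >>> 6) (wH a >>> 6) = 0 ∧
    mH (wH a &&& 63) (wH a &&& 63) = 0 ∧ mH (wH a >>> 6) (wH a &&& 63) = a := by decide +kernel

theorem V_chk : ∀ a < 4, ∀ b < 4, mH a b < 4 := by decide +kernel
theorem V_sq : ∀ a < 4, mH a a = 0 := by decide +kernel

theorem cent_chk : ∀ i < 32, ∀ a < 60, (∀ j < 32, mQ i (actT a j) = mQ j i) → a = 0 := by
  decide +kernel

theorem center_chk : ∀ i < 32, (∀ j < 32, mQ i j = mQ j i) → i = 0 ∨ i = 1 := by decide +kernel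

theorem comm_chk : ∀ i < 32, ∀ j < 32, mQ i j = mQ j i ∨ mQ i j = mQ 1 (mQ j i) := by
  decide +kernel

theorem z_chk : mQ 1 1 = 0 ∧ (∀ j < 32, mQ 1 j = mQ j 1) ∧ (∀ a < 60, actT a 1 = 1) ∧
    (∃ i < 32, ∃ j < 32, mQ i j ≠ mQ j i) := by decide +kernel

set_option synthInstance.maxSize 2000 in
set_option synthInstance.maxHeartbeats 400000 in
theorem elem_chk : ∀ i < 32, ∀ j < 32, ∀ k < 32, (mQ i i = 0 ∧ mQ j j = 0 ∧ mQ k k = 0 ∧ i ≠ 0 ∧
    j ≠ 0 ∧ j ≠ i ∧ mQ i j = mQ j i ∧ mQ i k = mQ k i ∧ mQ j k = mQ k j) →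
    (k = 0 ∨ k = i ∨ k = j ∨ k = mQ i j) := by decide +kernel

theorem pt_mul : ∀ a < 60, ∀ b < 60, ∀ k < 5, ptT (mH a b) k = ptT a (ptT b k) := by decide +kernel
theorem pt_one : ∀ k < 5, ptT 0 k = k := by decide +kernel
theorem pt_faithful : ∀ a < 60, (∀ k < 5, ptT a k = k) → a = 0 := by decide +kernel

end Cfsg.Agent.Lib.Helper56.J3
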