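import Mathlib
import Cfsg.Prelude.Def_Transfer
import Cfsg.Agent.Lib.Helper56.J3InvChk
import Cfsg.Agent.Lib.Helper90.ESConverse

/-!
A group `2^{1+4}_- : A₅` given by multiplication tables (helper56): abstract consequences of the
tables `mQ`, `mH`, `actT`, `ptT`.
-/

set_option autoImplicit false
set_option linter.unusedSectionVars false

namespace Cfsg.Agent.Lib.Helper56.J3

/-- subgroup from a multiplicatively closed subset of a finite group -/
def subgroupOfMulClosed {G : Type*} [Group G] [Finite G] (s : Set G) (h1 : (1 : G) ∈ s)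
    (hm : ∀ a ∈ s, ∀ b ∈ s, a * b ∈ s) : Subgroup G where
  carrier := s
  mul_mem' := fun ha hb => hm _ ha _ hb
  one_mem' := h1
  inv_mem' := by
    intro x hx
    have hp : ∀ k : ℕ, x ^ k ∈ s := by
      intro k
      induction k with
      | zero => simpa using h1
      | succ k ih => rw [pow_succ]; exact hm _ ih _ hx
    have e : x⁻¹ = x ^ (orderOf x - 1) := by
      apply inv_eq_of_mul_eq_one_left
      rw [← pow_succ, Nat.sub_add_cancel (orderOf_pos x), pow_orderOf_eq_one]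
    rw [e]
    exact hp _

theorem card_type_of_table {P : Type*} (N : ℕ) (f : ℕ → P) (hs : ∀ x : P, ∃ n < N, x = f n)
    (hinj : ∀ n < N, ∀ m < N, f n = f m → n = m) : Nat.card P = N := by
  let g : Fin N → P := fun n => f n
  have hb : Function.Bijective g :=
    ⟨fun a b e => Fin.ext (hinj a a.2 b b.2 e), fun x => by
      obtain ⟨n, hn, rfl⟩ := hs x
      exact ⟨⟨n, hn⟩, rfl⟩⟩
  rw [← Nat.card_congr (Equiv.ofBijective g hb), Nat.card_eq_fintype_card, Fintype.card_fin]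

theorem card_subgroup_of_table {G : Type*} [Group G] (S : Subgroup G) (N : ℕ) (f : ℕ → G)
    (hS : ∀ x, x ∈ S ↔ ∃ n < N, x = f n) (hinj : ∀ n < N, ∀ m < N, f n = f m → n = m) :
    Nat.card S = N := by
  classical
  apply card_type_of_table N (fun n => if h : n < N then ⟨f n, (hS _).2 ⟨n, h, rfl⟩⟩ else 1)
  · rintro ⟨x, hx⟩
    obtain ⟨n, hn, rfl⟩ := (hS x).1 hx
    exact ⟨n, hn, by rw [dif_pos hn]⟩
  · intro n hn m hm e
    rw [dif_pos hn, dif_pos hm] at e
    exact hinj n hn m hm (congrArg Subtype.val e)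

/-- The tables hold in `G`. -/
structure TSD {G : Type*} [Group G] (q hh : ℕ → G) : Prop where
  qq : ∀ i < 32, ∀ j < 32, q i * q j = q (mQ i j)
  hm : ∀ a < 60, ∀ b < 60, hh a * hh b = hh (mH a b)
  hq : ∀ a < 60, ∀ i < 32, hh a * q i = q (actT a i) * hh a
  q0 : q 0 = 1
  h0 : hh 0 = 1
  qh : ∀ i < 32, ∀ a < 60, q i = hh a → i = 0 ∧ a = 0
  qinj : ∀ i < 32, ∀ j < 32, q i = q j → i = j
  hinj : ∀ a < 60, ∀ b < 60, hh a = hh b → a = b

namespace TSD

section
variable {G : Type*} [Group G] {q hh : ℕ → G} (T : TSD q hh)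
include T

theorem mul {i j a b : ℕ} (hi : i < 32) (hj : j < 32) (ha : a < 60) (hb : b < 60) :
    (q i * hh a) * (q j * hh b) = q (mQ i (actT a j)) * hh (mH a b) := by
  calc (q i * hh a) * (q j * hh b) = q i * (hh a * q j) * hh b := by group
    _ = q i * (q (actT a j) * hh a) * hh b := by rw [T.hq a ha j hj]
    _ = (q i * q (actT a j)) * (hh a * hh b) := by group
    _ = _ := by rw [T.qq i hi _ (actT_lt a ha j hj), T.hm a ha b hb]

variable [Finite G]

def QS : Subgroup G :=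
  subgroupOfMulClosed {x | ∃ i < 32, x = q i} ⟨0, by norm_num, T.q0.symm⟩ (by
    rintro _ ⟨i, hi, rfl⟩ _ ⟨j, hj, rfl⟩
    exact ⟨_, mQ_lt i hi j hj, T.qq i hi j hj⟩)

def HS : Subgroup G :=
  subgroupOfMulClosed {x | ∃ a < 60, x = hh a} ⟨0, by norm_num, T.h0.symm⟩ (by
    rintro _ ⟨i, hi, rfl⟩ _ ⟨j, hj, rfl⟩
    exact ⟨_, mH_lt i hi j hj, T.hm i hi j hj⟩)

def CS : Subgroup G :=
  subgroupOfMulClosed {x | ∃ i < 32, ∃ a < 60, x = q i * hh a}
    ⟨0, by norm_num, 0, by norm_num, by rw [T.q0, T.h0, one_mul]⟩ (by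
    rintro _ ⟨i, hi, a, ha, rfl⟩ _ ⟨j, hj, b, hb, rfl⟩
    exact ⟨_, mQ_lt i hi _ (actT_lt a ha j hj), _, mH_lt a ha b hb, T.mul hi hj ha hb⟩)

def SS : Subgroup G :=
  subgroupOfMulClosed {x | ∃ i < 32, ∃ a < 4, x = q i * hh a}
    ⟨0, by norm_num, 0, by norm_num, by rw [T.q0, T.h0, one_mul]⟩ (by
    rintro _ ⟨i, hi, a, ha, rfl⟩ _ ⟨j, hj, b, hb, rfl⟩
    have ha' : a < 60 := by omega
    have hb' : b < 60 := by omega
    exact ⟨_, mQ_lt i hi _ (actT_lt a ha' j hj), _, V_chk a ha b hb, T.mul hi hj ha' hb'⟩)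

theorem mem_QS {x : G} : x ∈ T.QS ↔ ∃ i < 32, x = q i := Iff.rfl
theorem mem_HS {x : G} : x ∈ T.HS ↔ ∃ a < 60, x = hh a := Iff.rfl
theorem mem_CS {x : G} : x ∈ T.CS ↔ ∃ i < 32, ∃ a < 60, x = q i * hh a := Iff.rfl
theorem mem_SS {x : G} : x ∈ T.SS ↔ ∃ i < 32, ∃ a < 4, x = q i * hh a := Iff.rfl

theorem q_mem {i : ℕ} (hi : i < 32) : q i ∈ T.QS := ⟨i, hi, rfl⟩
theorem h_mem {a : ℕ} (ha : a < 60) : hh a ∈ T.HS := ⟨a, ha, rfl⟩

theorem QS_le_SS : T.QS ≤ T.SS := by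
  rintro _ ⟨i, hi, rfl⟩
  exact ⟨i, hi, 0, by norm_num, by rw [T.h0, mul_one]⟩

theorem SS_le_CS : T.SS ≤ T.CS := by
  rintro _ ⟨i, hi, a, ha, rfl⟩
  exact ⟨i, hi, a, by omega, rfl⟩

theorem QS_le_CS : T.QS ≤ T.CS := T.QS_le_SS.trans T.SS_le_CS

theorem HS_le_CS : T.HS ≤ T.CS := by
  rintro _ ⟨a, ha, rfl⟩
  exact ⟨0, by norm_num, a, ha, by rw [T.q0, one_mul]⟩

theorem prod_inj {i j a b : ℕ} (hi : i < 32) (hj : j < 32) (ha : a < 60) (hb : b < 60)
    (e : q i * hh a = q j * hh b) : i = j ∧ a = b := by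
  have e1 : (q j)⁻¹ * q i = hh b * (hh a)⁻¹ := by
    rw [inv_mul_eq_iff_eq_mul, ← mul_assoc, eq_mul_inv_iff_mul_eq]
    exact e
  have h1 : (q j)⁻¹ * q i ∈ T.QS := T.QS.mul_mem (T.QS.inv_mem (T.q_mem hj)) (T.q_mem hi)
  have h2 : hh b * (hh a)⁻¹ ∈ T.HS := T.HS.mul_mem (T.h_mem hb) (T.HS.inv_mem (T.h_mem ha))
  obtain ⟨k, hk, ek⟩ := h1
  obtain ⟨c, hc, ec⟩ := h2
  obtain ⟨rfl, rfl⟩ := T.qh k hk c hc (by rw [← ek, ← ec, e1])
  rw [T.q0] at ek
  rw [T.h0] at ec
  exact ⟨T.qinj i hi j hj (inv_mul_eq_one.1 ek).symm, T.hinj a ha b hb (mul_inv_eq_one.1 ec).symm⟩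

theorem card_QS : Nat.card T.QS = 32 :=
  card_subgroup_of_table _ 32 q (fun _ => Iff.rfl) T.qinj

theorem card_HS : Nat.card T.HS = 60 :=
  card_subgroup_of_table _ 60 hh (fun _ => Iff.rfl) T.hinj

theorem card_CS : Nat.card T.CS = 1920 := by
  apply card_subgroup_of_table _ 1920 (fun n => q (n / 60) * hh (n % 60))
  · intro x
    constructor
    · rintro ⟨i, hi, a, ha, rfl⟩
      refine ⟨60 * i + a, by omega, ?_⟩
      have h1 : (60 * i + a) / 60 = i := by omega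
      have h2 : (60 * i + a) % 60 = a := by omega
      simp only [h1, h2]
    · rintro ⟨n, hn, rfl⟩
      exact ⟨n / 60, by omega, n % 60, by omega, rfl⟩
  · intro n hn m hm e
    obtain ⟨e1, e2⟩ := T.prod_inj (by omega) (by omega) (by omega) (by omega) e
    omega

theorem card_SS : Nat.card T.SS = 128 := by
  apply card_subgroup_of_table _ 128 (fun n => q (n / 4) * hh (n % 4))
  · intro x
    constructor
    · rintro ⟨i, hi, a, ha, rfl⟩
      refine ⟨4 * i + a, by omega, ?_⟩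
      have h1 : (4 * i + a) / 4 = i := by omega
      have h2 : (4 * i + a) % 4 = a := by omega
      simp only [h1, h2]
    · rintro ⟨n, hn, rfl⟩
      exact ⟨n / 4, by omega, n % 4, by omega, rfl⟩
  · intro n hn m hm e
    obtain ⟨e1, e2⟩ := T.prod_inj (by omega) (by omega) (by omega) (by omega) e
    omega

theorem conj_h_q {a i : ℕ} (ha : a < 60) (hi : i < 32) :
    hh a * q i * (hh a)⁻¹ = q (actT a i) := by
  rw [mul_inv_eq_iff_eq_mul]
  exact T.hq a ha i hi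

theorem conj_mem_QS {g x : G} (hg : g ∈ T.CS) (hx : x ∈ T.QS) : g * x * g⁻¹ ∈ T.QS := by
  obtain ⟨i, hi, a, ha, rfl⟩ := hg
  obtain ⟨j, hj, rfl⟩ := hx
  have e : q i * hh a * q j * (q i * hh a)⁻¹ = q i * (hh a * q j * (hh a)⁻¹) * (q i)⁻¹ := by group
  rw [e, T.conj_h_q ha hj]
  exact T.QS.mul_mem (T.QS.mul_mem (T.q_mem hi) (T.q_mem (actT_lt a ha j hj)))
    (T.QS.inv_mem (T.q_mem hi))

theorem q1_ne_one : q 1 ≠ 1 := by
  intro e
  have := T.qinj 1 (by norm_num) 0 (by norm_num) (by rw [e, T.q0])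
  omega

theorem q1_sq : q 1 * q 1 = 1 := by
  rw [T.qq 1 (by norm_num) 1 (by norm_num), z_chk.1, T.q0]

theorem orderOf_q1 : orderOf (q 1) = 2 := by
  have : Fact (Nat.Prime 2) := ⟨Nat.prime_two⟩
  exact orderOf_eq_prime (by rw [pow_two]; exact T.q1_sq) T.q1_ne_one

theorem comm_q1 {g : G} (hg : g ∈ T.CS) : g * q 1 = q 1 * g := by
  obtain ⟨i, hi, a, ha, rfl⟩ := hg
  calc q i * hh a * q 1 = q i * (hh a * q 1) := by group
    _ = q i * (q 1 * hh a) := by rw [T.hq a ha 1 (by norm_num), z_chk.2.2.1 a ha]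
    _ = (q i * q 1) * hh a := by group
    _ = (q 1 * q i) * hh a := by
        rw [T.qq i hi 1 (by norm_num), T.qq 1 (by norm_num) i hi, z_chk.2.1 i hi]
    _ = _ := by group

/-- an element of `CS` centralizing `QS` lies in `{1, q 1}` -/
theorem cent_QS {z : G} (hz : z ∈ T.CS) (hc : ∀ j < 32, z * q j = q j * z) : z = 1 ∨ z = q 1 := by
  obtain ⟨i, hi, a, ha, rfl⟩ := hz
  have h1 : ∀ j < 32, mQ i (actT a j) = mQ j i := by
    intro j hj
    have e1 : q i * hh a * q j = q (mQ i (actT a j)) * hh a := by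
      calc q i * hh a * q j = q i * (hh a * q j) := by group
        _ = q i * (q (actT a j) * hh a) := by rw [T.hq a ha j hj]
        _ = (q i * q (actT a j)) * hh a := by group
        _ = _ := by rw [T.qq i hi _ (actT_lt a ha j hj)]
    have e2 : q j * (q i * hh a) = q (mQ j i) * hh a := by
      rw [← mul_assoc, T.qq j hj i hi]
    have e3 := hc j hj
    rw [e1, e2] at e3
    exact T.qinj _ (mQ_lt i hi _ (actT_lt a ha j hj)) _ (mQ_lt j hj i hi) (mul_right_cancel e3)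
  have ha0 : a = 0 := cent_chk i hi a ha h1
  subst ha0
  have h2 : ∀ j < 32, mQ i j = mQ j i := by
    intro j hj
    have e3 := hc j hj
    rw [T.h0, mul_one, T.qq i hi j hj, T.qq j hj i hi] at e3
    exact T.qinj _ (mQ_lt i hi j hj) _ (mQ_lt j hj i hi) e3
  rcases center_chk i hi h2 with rfl | rfl
  · left; rw [T.q0, T.h0, one_mul]
  · right; rw [T.h0, mul_one]

theorem eq_one_of_central {z : G} (hz : z ∈ T.CS) (hc : ∀ j < 32, z * q j = q j * z)
    (h3 : z ^ 3 = 1) : z = 1 := by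
  rcases T.cent_QS hz hc with h | h
  · exact h
  · exfalso
    rw [h] at h3
    have : q 1 ^ 3 = q 1 := by rw [pow_succ, pow_two, T.q1_sq, one_mul]
    rw [this] at h3
    exact T.q1_ne_one h3

end

end TSD

end Cfsg.Agent.Lib.Helper56.J3
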