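import Mathlib
import Cfsg.Agent.Lib.Helper56.J3TSD

/-!
Structure of the group `2^{1+4}_- : A₅` given by tables (helper56): the normal subgroup is
extraspecial of minus type, the complement is `A₅`.
-/

set_option autoImplicit false
set_option linter.unusedSectionVars false

namespace Cfsg.Agent.Lib.Helper56.J3

namespace TSD

section
variable {G : Type*} [Group G] {q hh : ℕ → G} (T : TSD q hh) [Finite G]
include T

/-- Any group embedded onto `{q i}` is extraspecial of order 32 without elementary abelian subgroups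
of order 8. -/
theorem extraspecial {P : Type*} [Group P] (ι : P →* G) (hι : Function.Injective ι)
    (h1 : ∀ p : P, ∃ i < 32, ι p = q i) (h2 : ∀ i < 32, ∃ p : P, ι p = q i) :
    Cfsg.IsExtraspecial 2 P ∧ Nat.card P = 32 ∧
      ∀ E : Subgroup P, Cfsg.IsElementaryAbelian 2 E → Nat.card E ≤ 2 ^ 2 := by
  classical
  have hfin : Finite P := Finite.of_injective ι hι
  let e : ℕ → P := fun i => if h : i < 32 then (h2 i h).choose else 1
  have he : ∀ i < 32, ι (e i) = q i := by
    intro i hi
    simp only [e, dif_pos hi]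
    exact (h2 i hi).choose_spec
  have hcard : Nat.card P = 32 := by
    apply card_type_of_table 32 e
    · intro p
      obtain ⟨i, hi, hp⟩ := h1 p
      exact ⟨i, hi, hι (by rw [hp, he i hi])⟩
    · intro n hn m hm h
      apply T.qinj n hn m hm
      rw [← he n hn, ← he m hm, h]
  have hmul : ∀ (x y : P) (i j : ℕ), i < 32 → j < 32 → ι x = q i → ι y = q j →
      ι (x * y) = q (mQ i j) := by
    intro x y i j hi hj hx hy
    rw [map_mul, hx, hy, T.qq i hi j hj]
  have hone : ∀ (x : P), ι x = q 0 → x = 1 := by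
    intro x hx
    apply hι
    rw [hx, T.q0, map_one]
  refine ⟨?_, hcard, ?_⟩
  · apply Cfsg.Agent.Lib.Helper90.isExtraspecial_of (e 1)
    · exact IsPGroup.of_card (n := 5) (by rw [hcard]; norm_num)
    · intro h
      apply T.q1_ne_one
      rw [← he 1 (by norm_num), h, map_one]
    · apply hι
      rw [map_mul, he 1 (by norm_num), T.q1_sq, map_one]
    · intro p
      obtain ⟨i, hi, hp⟩ := h1 p
      apply hι
      rw [hmul _ _ i 1 hi (by norm_num) hp (he 1 (by norm_num)),
        hmul _ _ 1 i (by norm_num) hi (he 1 (by norm_num)) hp, z_chk.2.1 i hi]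
    · intro y hy
      obtain ⟨i, hi, hp⟩ := h1 y
      have h3 : ∀ j < 32, mQ i j = mQ j i := by
        intro j hj
        have := congrArg ι (hy (e j))
        rw [hmul _ _ j i hj hi (he j hj) hp, hmul _ _ i j hi hj hp (he j hj)] at this
        exact (T.qinj _ (mQ_lt j hj i hi) _ (mQ_lt i hi j hj) this).symm
      rcases center_chk i hi h3 with rfl | rfl
      · left; exact hone y hp
      · right; exact hι (by rw [hp, he 1 (by norm_num)])
    · intro x y
      obtain ⟨i, hi, hx⟩ := h1 x
      obtain ⟨j, hj, hy⟩ := h1 y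
      rcases comm_chk i hi j hj with h | h
      · left
        apply hι
        rw [hmul _ _ i j hi hj hx hy, hmul _ _ j i hj hi hy hx, h]
      · right
        apply hι
        rw [hmul _ _ i j hi hj hx hy, hmul _ _ 1 _ (by norm_num) (mQ_lt j hj i hi)
          (he 1 (by norm_num)) (hmul _ _ j i hj hi hy hx), h]
    · obtain ⟨i, hi, j, hj, h⟩ := z_chk.2.2.2
      refine ⟨e i, e j, ?_⟩
      intro h'
      apply h
      have := congrArg ι h'
      rw [hmul _ _ i j hi hj (he i hi) (he j hj), hmul _ _ j i hj hi (he j hj) (he i hi)] at this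
      exact T.qinj _ (mQ_lt i hi j hj) _ (mQ_lt j hj i hi) this
  · intro E hE
    obtain ⟨hEc, hE2⟩ := hE
    have hcomm : ∀ x ∈ E, ∀ y ∈ E, x * y = y * x := by
      intro x hx y hy
      have := (isMulCommutative_iff.1 hEc) ⟨x, hx⟩ ⟨y, hy⟩
      exact congrArg Subtype.val this
    have hsq : ∀ x ∈ E, ∀ i < 32, ι x = q i → mQ i i = 0 := by
      intro x hx i hi hxi
      have h3 := hE2 x hx
      rw [pow_two] at h3
      have := hmul x x i i hi hi hxi hxi
      rw [h3, map_one, ← T.q0] at this
      exact (T.qinj _ (by norm_num) _ (mQ_lt i hi i hi) this).symm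
    have hci : ∀ x ∈ E, ∀ y ∈ E, ∀ i < 32, ∀ j < 32, ι x = q i → ι y = q j → mQ i j = mQ j i := by
      intro x hx y hy i hi j hj hxi hyj
      have := congrArg ι (hcomm x hx y hy)
      rw [hmul _ _ i j hi hj hxi hyj, hmul _ _ j i hj hi hyj hxi] at this
      exact T.qinj _ (mQ_lt i hi j hj) _ (mQ_lt j hj i hi) this
    have key : ∃ a b : P, ∀ x ∈ E, x = 1 ∨ x = a ∨ x = b ∨ x = a * b := by
      by_cases c1 : ∀ x ∈ E, x = 1
      · exact ⟨1, 1, fun x hx => Or.inl (c1 x hx)⟩
      push Not at c1
      obtain ⟨a, ha, ha1⟩ := c1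
      by_cases c2 : ∀ x ∈ E, x = 1 ∨ x = a
      · refine ⟨a, a, fun x hx => ?_⟩
        rcases c2 x hx with h | h
        · exact Or.inl h
        · exact Or.inr (Or.inl h)
      push Not at c2
      obtain ⟨b, hb, hb1, hba⟩ := c2
      refine ⟨a, b, fun x hx => ?_⟩
      obtain ⟨i, hi, hai⟩ := h1 a
      obtain ⟨j, hj, hbj⟩ := h1 b
      obtain ⟨k, hk, hxk⟩ := h1 x
      have hi0 : i ≠ 0 := by rintro rfl; exact ha1 (hone a hai)
      have hj0 : j ≠ 0 := by rintro rfl; exact hb1 (hone b hbj)
      have hji : j ≠ i := by rintro rfl; exact hba (hι (by rw [hbj, hai]))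
      rcases elem_chk i hi j hj k hk ⟨hsq a ha i hi hai, hsq b hb j hj hbj, hsq x hx k hk hxk, hi0,
        hj0, hji, hci a ha b hb i hi j hj hai hbj, hci a ha x hx i hi k hk hai hxk,
        hci b hb x hx j hj k hk hbj hxk⟩ with rfl | rfl | rfl | rfl
      · exact Or.inl (hone x hxk)
      · exact Or.inr (Or.inl (hι (by rw [hxk, hai])))
      · exact Or.inr (Or.inr (Or.inl (hι (by rw [hxk, hbj]))))
      · exact Or.inr (Or.inr (Or.inr (hι (by rw [hxk, hmul a b i j hi hj hai hbj]))))
    obtain ⟨a, b, hab⟩ := key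
    have hsub : (E : Set P) ⊆ ↑({1, a, b, a * b} : Finset P) := by
      intro x hx
      have := hab x hx
      simp only [Finset.coe_insert, Finset.coe_singleton, Set.mem_insert_iff,
        Set.mem_singleton_iff]
      exact this
    calc Nat.card E = (E : Set P).ncard := Nat.card_coe_set_eq _
      _ ≤ (↑({1, a, b, a * b} : Finset P) : Set P).ncard :=
          Set.ncard_le_ncard hsub (Finset.finite_toSet _)
      _ = ({1, a, b, a * b} : Finset P).card := Set.ncard_coe_finset _
      _ ≤ 4 := Finset.card_le_four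
      _ = 2 ^ 2 := by norm_num

/-- Any group embedded onto `{hh a}` is isomorphic to `A₅`. -/
theorem alt5 {P : Type*} [Group P] (ι : P →* G) (hι : Function.Injective ι)
    (h1 : ∀ p : P, ∃ a < 60, ι p = hh a) (h2 : ∀ a < 60, ∃ p : P, ι p = hh a) :
    Nonempty (P ≃* alternatingGroup (Fin 5)) := by
  classical
  have hfin : Finite P := Finite.of_injective ι hι
  let e : ℕ → P := fun i => if h : i < 60 then (h2 i h).choose else 1
  have he : ∀ i < 60, ι (e i) = hh i := by
    intro i hi
    simp only [e, dif_pos hi]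
    exact (h2 i hi).choose_spec
  have hcard : Nat.card P = 60 := by
    apply card_type_of_table 60 e
    · intro p
      obtain ⟨i, hi, hp⟩ := h1 p
      exact ⟨i, hi, hι (by rw [hp, he i hi])⟩
    · intro n hn m hm h
      apply T.hinj n hn m hm
      rw [← he n hn, ← he m hm, h]
  let ind : P → ℕ := fun p => (h1 p).choose
  have hind : ∀ p, ind p < 60 := fun p => (h1 p).choose_spec.1
  have hind2 : ∀ p, ι p = hh (ind p) := fun p => (h1 p).choose_spec.2
  have hind_one : ind 1 = 0 := by
    apply T.hinj _ (hind 1) 0 (by norm_num)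
    rw [← hind2, map_one, T.h0]
  have hind_mul : ∀ x y, ind (x * y) = mH (ind x) (ind y) := by
    intro x y
    apply T.hinj _ (hind _) _ (mH_lt _ (hind x) _ (hind y))
    rw [← hind2, map_mul, hind2 x, hind2 y, T.hm _ (hind x) _ (hind y)]
  let f : P →* Function.End (Fin 5) :=
    { toFun := fun p k => ⟨ptT (ind p) k, ptT_lt _ (hind p) k k.2⟩
      map_one' := by
        funext k
        apply Fin.ext
        show ptT (ind 1) k = k
        rw [hind_one, pt_one k k.2]
      map_mul' := by
        intro x y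
        funext k
        apply Fin.ext
        show ptT (ind (x * y)) k = ptT (ind x) (ptT (ind y) k)
        rw [hind_mul, pt_mul _ (hind x) _ (hind y) k k.2] }
  let Φ : P →* Equiv.Perm (Fin 5) := MonoidHom.toHomPerm f
  have hΦ : ∀ p k, ((Φ p k : Fin 5) : ℕ) = ptT (ind p) k := fun p k => rfl
  have hinj : Function.Injective Φ := by
    rw [injective_iff_map_eq_one]
    intro p hp
    have h3 : ∀ k < 5, ptT (ind p) k = k := by
      intro k hk
      have := hΦ p ⟨k, hk⟩
      rw [hp] at this
      exact this.symm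
    have h4 := pt_faithful _ (hind p) h3
    apply hι
    rw [hind2, h4, T.h0, map_one]
  have hr : Nat.card Φ.range = 60 := by
    rw [← hcard]
    exact (Nat.card_congr (MonoidHom.ofInjective hinj).toEquiv).symm
  have hidx : Φ.range.index = 2 := by
    have h5 := Φ.range.card_mul_index
    rw [hr, Nat.card_perm, Nat.card_eq_fintype_card, Fintype.card_fin] at h5
    have : Nat.factorial 5 = 120 := by decide
    omega
  have hA := Equiv.Perm.eq_alternatingGroup_of_index_eq_two hidx
  exact ⟨(MonoidHom.ofInjective hinj).trans (MulEquiv.subgroupCongr hA)⟩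

/-- the structure of `CS` -/
theorem structure_CS : ∃ (Q : Subgroup T.CS) (_ : Q.Normal), Cfsg.IsExtraspecial 2 Q ∧
    Nat.card Q = 32 ∧ (∀ E : Subgroup Q, Cfsg.IsElementaryAbelian 2 E → Nat.card E ≤ 2 ^ 2) ∧
    (∃ H : Subgroup T.CS, Q.IsComplement' H) ∧
    Nonempty (T.CS ⧸ Q ≃* alternatingGroup (Fin 5)) := by
  have hN : (T.QS.subgroupOf T.CS).Normal := by
    constructor
    intro n hn g
    rw [Subgroup.mem_subgroupOf] at hn ⊢
    exact T.conj_mem_QS g.2 hn
  have hE := T.extraspecial (T.CS.subtype.comp (T.QS.subgroupOf T.CS).subtype)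
    (by
      intro a b h
      exact Subtype.ext (Subtype.ext h))
    (by
      rintro ⟨p, hp⟩
      exact hp)
    (by
      intro i hi
      exact ⟨⟨⟨q i, T.QS_le_CS (T.q_mem hi)⟩, T.q_mem hi⟩, rfl⟩)
  have hcH : Nat.card (T.HS.subgroupOf T.CS) = 60 := by
    rw [Nat.card_congr (Subgroup.subgroupOfEquivOfLe T.HS_le_CS).toEquiv, T.card_HS]
  have hcomp : (T.QS.subgroupOf T.CS).IsComplement' (T.HS.subgroupOf T.CS) := by
    apply Subgroup.isComplement'_of_card_mul_and_disjoint
    · rw [hE.2.1, hcH, T.card_CS]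
    · rw [Subgroup.disjoint_def]
      intro x hx1 hx2
      rw [Subgroup.mem_subgroupOf] at hx1 hx2
      obtain ⟨i, hi, e1⟩ := hx1
      obtain ⟨a, ha, e2⟩ := hx2
      obtain ⟨rfl, rfl⟩ := T.qh i hi a ha (by rw [← e1, ← e2])
      apply Subtype.ext
      rw [e1, T.q0]
      rfl
  obtain ⟨eA⟩ := T.alt5 (T.CS.subtype.comp (T.HS.subgroupOf T.CS).subtype)
    (by
      intro a b h
      exact Subtype.ext (Subtype.ext h))
    (by
      rintro ⟨p, hp⟩
      exact hp)
    (by
      intro i hi
      exact ⟨⟨⟨hh i, T.HS_le_CS (T.h_mem hi)⟩, T.h_mem hi⟩, rfl⟩)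
  exact ⟨T.QS.subgroupOf T.CS, hN, hE.1, hE.2.1, hE.2.2, ⟨_, hcomp⟩,
    ⟨(hcomp.symm.QuotientMulEquiv).trans eA⟩⟩

end

end TSD

end Cfsg.Agent.Lib.Helper56.J3
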