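import Mathlib
import Cfsg.Agent.Lib.Helper56.J3TSD2

/-!
A group of order `|J₃|` containing `2^{1+4}_- : A₅` given by tables, with at least 26163 conjugates of
the central involution, all involutions of a Sylow 2-subgroup being conjugate (helper56).
-/

set_option autoImplicit false
set_option linter.unusedSectionVars false

namespace Cfsg.Agent.Lib.Helper56.J3

/-- `N` distinct conjugates bound the order of the centralizer. -/
theorem card_centralizer_le {G : Type*} [Group G] [Finite G] (x : G) (N : ℕ) (g : Fin N → G)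
    (hinj : Function.Injective (fun j => g j * x * (g j)⁻¹)) :
    N * Nat.card (Subgroup.centralizer ({x} : Set G)) ≤ Nat.card G := by
  let f : Fin N × Subgroup.centralizer ({x} : Set G) → G := fun p => g p.1 * p.2
  have hc : ∀ c : Subgroup.centralizer ({x} : Set G), (c : G) * x * (c : G)⁻¹ = x := by
    intro c
    have := Subgroup.mem_centralizer_iff.1 c.2 x rfl
    rw [← this, mul_inv_cancel_right]
  have hf : Function.Injective f := by
    rintro ⟨j, c⟩ ⟨k, d⟩ h
    have h' : g j * c = g k * d := h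
    have e1 : g j * x * (g j)⁻¹ = g k * x * (g k)⁻¹ := by
      calc g j * x * (g j)⁻¹ = g j * ((c : G) * x * (c : G)⁻¹) * (g j)⁻¹ := by rw [hc]
        _ = (g j * c) * x * (g j * c)⁻¹ := by group
        _ = (g k * d) * x * (g k * d)⁻¹ := by rw [h']
        _ = g k * ((d : G) * x * (d : G)⁻¹) * (g k)⁻¹ := by group
        _ = _ := by rw [hc]
    have e2 : j = k := hinj e1
    subst e2
    have e3 : (c : G) = d := mul_left_cancel h'
    rw [Subtype.ext e3]
  have := Nat.card_le_card_of_injective f hf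
  rwa [Nat.card_prod, Nat.card_eq_fintype_card, Fintype.card_fin] at this

/-- The hypotheses on the ambient group. -/
structure TSDJ {G : Type*} [Group G] (q hh : ℕ → G) : Prop extends TSD q hh where
  card : Nat.card G = 50232960
  cls : ∃ g : Fin 26163 → G, Function.Injective (fun j => g j * q 1 * (g j)⁻¹)
  conj : ∀ i < 32, ∀ a < 4, mQ i (actT a i) = 0 → (i ≠ 0 ∨ a ≠ 0) →
    ∃ g, g * q 1 * g⁻¹ = q i * hh a

namespace TSDJ

section
variable {G : Type*} [Group G] {q hh : ℕ → G} (J : TSDJ q hh) [Finite G]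
include J

theorem centralizer_eq : Subgroup.centralizer ({q 1} : Set G) = J.toTSD.CS := by
  have T := J.toTSD
  symm
  apply Subgroup.eq_of_le_of_card_ge
  · intro g hg
    rw [Subgroup.mem_centralizer_iff]
    intro y hy
    rw [Set.mem_singleton_iff] at hy
    rw [hy]
    exact (T.comm_q1 hg).symm
  · obtain ⟨g, hg⟩ := J.cls
    have h1 := card_centralizer_le (q 1) 26163 g hg
    rw [J.card] at h1
    rw [T.card_CS]
    by_contra hlt
    push Not at hlt
    have : 26163 * 1921 ≤ 26163 * Nat.card (Subgroup.centralizer ({q 1} : Set G)) :=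
      Nat.mul_le_mul_left _ hlt
    omega

theorem mem_CS_of_comm {g : G} (hg : g * q 1 = q 1 * g) : g ∈ J.toTSD.CS := by
  rw [← J.centralizer_eq, Subgroup.mem_centralizer_iff]
  intro y hy
  rw [Set.mem_singleton_iff] at hy
  rw [hy]
  exact hg.symm

theorem not_dvd_index : ¬ 2 ∣ J.toTSD.SS.index := by
  have h := J.toTSD.SS.card_mul_index
  rw [J.toTSD.card_SS, J.card] at h
  have : J.toTSD.SS.index = 392445 := by omega
  rw [this]
  decide

theorem isPGroup_SS : IsPGroup 2 J.toTSD.SS :=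
  IsPGroup.of_card (n := 7) (by rw [J.toTSD.card_SS]; norm_num)

/-- the Sylow 2-subgroup -/
def syl : letI : Fact (Nat.Prime 2) := ⟨Nat.prime_two⟩; Sylow 2 G :=
  letI : Fact (Nat.Prime 2) := ⟨Nat.prime_two⟩
  J.isPGroup_SS.toSylow J.not_dvd_index

/-- involutions of the Sylow subgroup are conjugate to `q 1` -/
theorem conj_of_mem_SS {y : G} (hy : y ∈ J.toTSD.SS) (h2 : y * y = 1) (h1 : y ≠ 1) :
    ∃ g, g * q 1 * g⁻¹ = y := by
  have T := J.toTSD
  obtain ⟨i, hi, a, ha, rfl⟩ := hy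
  have ha' : a < 60 := by omega
  rw [T.mul hi hi ha' ha'] at h2
  have h3 : q (mQ i (actT a i)) * hh (mH a a) = q 0 * hh 0 := by rw [h2, T.q0, T.h0, one_mul]
  obtain ⟨e1, -⟩ := T.prod_inj (mQ_lt i hi _ (actT_lt a ha' i hi)) (by norm_num)
    (mH_lt a ha' a ha') (by norm_num) h3
  apply J.conj i hi a ha e1
  by_contra hcon
  push Not at hcon
  apply h1
  rw [hcon.1, hcon.2, T.q0, T.h0, one_mul]

theorem exists_conj_mem_SS {x : G} (hx : orderOf x = 2) : ∃ g : G, g * x * g⁻¹ ∈ J.toTSD.SS := by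
  haveI : Fact (Nat.Prime 2) := ⟨Nat.prime_two⟩
  have hP : IsPGroup 2 (Subgroup.zpowers x) :=
    IsPGroup.of_card (n := 1) (by rw [Nat.card_zpowers, hx]; norm_num)
  obtain ⟨R, hR⟩ := hP.exists_le_sylow
  obtain ⟨n, hn⟩ := MulAction.exists_smul_eq G R J.syl
  refine ⟨n, ?_⟩
  have h1 : x ∈ (R : Subgroup G) := hR (Subgroup.mem_zpowers _)
  have h2 : n * x * n⁻¹ ∈ ((J.syl : Sylow 2 G) : Subgroup G) := by
    rw [← hn, Sylow.coe_subgroup_smul, Subgroup.mem_pointwise_smul_iff_inv_smul_mem]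
    have : (MulAut.conj n)⁻¹ • (n * x * n⁻¹) = x := by
      rw [← map_inv, MulAut.smul_def, MulAut.conj_apply]
      group
    rw [this]
    exact h1
  exact h2

theorem conj_q1 {x : G} (hx : orderOf x = 2) : ∃ g, g * q 1 * g⁻¹ = x := by
  obtain ⟨n, hn⟩ := J.exists_conj_mem_SS hx
  have hx2 : x * x = 1 := by rw [← pow_two, ← hx, pow_orderOf_eq_one]
  have hx1 : x ≠ 1 := by
    rintro rfl
    rw [orderOf_one] at hx
    omega
  obtain ⟨g, hg⟩ := J.conj_of_mem_SS hn
    (by
      calc n * x * n⁻¹ * (n * x * n⁻¹) = n * (x * x) * n⁻¹ := by group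
        _ = 1 := by rw [hx2]; group)
    (by
      intro h
      apply hx1
      have : x = n⁻¹ * (n * x * n⁻¹) * n := by group
      rw [this, h]
      group)
  refine ⟨n⁻¹ * g, ?_⟩
  calc n⁻¹ * g * q 1 * (n⁻¹ * g)⁻¹ = n⁻¹ * (g * q 1 * g⁻¹) * n := by group
    _ = x := by rw [hg]; group

theorem isConj_of_orderOf {x y : G} (hx : orderOf x = 2) (hy : orderOf y = 2) : IsConj x y := by
  obtain ⟨g, hg⟩ := J.conj_q1 hx
  obtain ⟨k, hk⟩ := J.conj_q1 hy
  exact (isConj_iff.2 ⟨g, hg⟩).symm.trans (isConj_iff.2 ⟨k, hk⟩)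

/-- The statement on the involution centralizer. -/
theorem main : (∀ x y : G, orderOf x = 2 → orderOf y = 2 → IsConj x y) ∧
    ∃ t : G, orderOf t = 2 ∧ ∃ (Q : Subgroup (Subgroup.centralizer ({t} : Set G))) (_ : Q.Normal),
      Cfsg.IsExtraspecial 2 Q ∧ Nat.card Q = 32 ∧
      (∀ E : Subgroup Q, Cfsg.IsElementaryAbelian 2 E → Nat.card E ≤ 2 ^ 2) ∧
      (∃ H : Subgroup (Subgroup.centralizer ({t} : Set G)), Q.IsComplement' H) ∧
      Nonempty (Subgroup.centralizer ({t} : Set G) ⧸ Q ≃* alternatingGroup (Fin 5)) := by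
  refine ⟨fun x y hx hy => J.isConj_of_orderOf hx hy, q 1, J.toTSD.orderOf_q1, ?_⟩
  rw [J.centralizer_eq]
  exact J.toTSD.structure_CS

end

end TSDJ

end Cfsg.Agent.Lib.Helper56.J3
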