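import Mathlib
import Cfsg.Agent.Lib.Helper56.J3ChkDef
import Cfsg.Agent.Lib.Helper56.J3DataX
import Cfsg.Agent.Lib.Helper56.J3Gens

set_option autoImplicit false

namespace Cfsg.Agent.Lib.Helper56.J3

open Cfsg.Spor

def smulC (c A : ℕ) : ℕ := (bif c.testBit 0 then A else 0) ^^^ (bif c.testBit 1 then mulw A else 0)

def horner (x : ℕ) : List ℕ → ℕ
  | [] => 0
  | c :: cs => smulC c IDc ^^^ mulCode x (horner x cs)

theorem P_chk : ∀ z < 9, Pcode z = horner t0c (Pcoef z) ∧ col (Pcode z) 0 = 1 <<< (2 * z) := by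
  decide +kernel

theorem xpow_chk : xpow 0 = IDc ∧ (∀ k < 18, xpow (k + 1) = mulCode t0c (xpow k)) ∧
    mulCode t0c (xpow 18) = IDc := by
  decide +kernel

def inOm (v : ℕ) : Bool := OmMask.testBit v

def pt (i : ℕ) : ℕ := col (Utab i) 0

def fM (i : ℕ) : Bool :=
  Nat.ble NN i || (inOm (pt i) && inOm (mulw (pt i)) && inOm (pt i ^^^ mulw (pt i)))

def tst (z i : ℕ) : Bool := inOm (col (mulCode (Pcode z) (pt i)) 0)

def alive (i : ℕ) : Bool :=
  tst 1 i && tst 2 i && tst 3 i && tst 4 i && tst 5 i && tst 6 i && tst 7 i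

def isXk (i k : ℕ) : Bool :=
  Nat.beq (pt i) (col (xpow k) 0) || Nat.beq (pt i) (mulw (col (xpow k) 0)) ||
    Nat.beq (pt i) (col (xpow k) 0 ^^^ mulw (col (xpow k) 0))

def isX (i : ℕ) : Bool := (List.range 19).any (isXk i)

def fX (i : ℕ) : Bool := Nat.ble NN i || !(alive i) || isX i

theorem cM_raw : allB fM 15 0 = true := by decide +kernel
theorem cX_raw : allB fX 15 0 = true := by decide +kernel

theorem single_chk : ∀ z w : F9, ((1 <<< (2 * idx z)) >>> (2 * idx w)) % 4 = if w = z then 1 else 0 := by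
  decide +kernel

theorem cD_col_chk : ∀ Z w : F9, (cD Z >>> (2 * idx w)) % 4 = if w = Z then 1 else 0 := by
  decide +kernel

def aOm : ℕ := 4981

theorem misc_chk : Wtab aOm = mulw IDc ∧ aOm < n1 ∧ t0c < 2 ^ 162 ∧ t0c ≠ IDc ∧ IDc < 2 ^ 162 ∧
    mulCode t0c t1c < 2 ^ 162 ∧ mulCode t1c t0c < 2 ^ 162 ∧ mulCode t0c t1c ≠ mulCode t1c t0c ∧
    mulw IDc < 2 ^ 162 ∧ mulw IDc ≠ IDc := by
  decide +kernel

end Cfsg.Agent.Lib.Helper56.J3
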