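import Mathlib
import Cfsg.Agent.Lib.Helper56.J3ChkDef

set_option autoImplicit false

namespace Cfsg.Agent.Lib.Helper56.J3

theorem c0_0_0 : allB (f0 t0c Ctab0) 12 (2 ^ 12 * 0) = true := by decide +kernel
theorem c0_0_1 : allB (f0 t0c Ctab0) 12 (2 ^ 12 * 1) = true := by decide +kernel
theorem c0_0_2 : allB (f0 t0c Ctab0) 12 (2 ^ 12 * 2) = true := by decide +kernel
theorem c0_0_3 : allB (f0 t0c Ctab0) 12 (2 ^ 12 * 3) = true := by decide +kernel
theorem c0_0_4 : allB (f0 t0c Ctab0) 12 (2 ^ 12 * 4) = true := by decide +kernel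
theorem c0_0_5 : allB (f0 t0c Ctab0) 12 (2 ^ 12 * 5) = true := by decide +kernel

theorem c0_0 : ∀ i < NN, chk0 t0c Ctab0 i = true := by
  intro i hi
  have h := forall_of_blocks (f0 t0c Ctab0) 12 6 (by
    intro b hb
    interval_cases b
    · exact c0_0_0
    · exact c0_0_1
    · exact c0_0_2
    · exact c0_0_3
    · exact c0_0_4
    · exact c0_0_5) i (lt_trans hi (by decide))
  rw [f0, Bool.or_eq_true] at h
  rcases h with h | h
  · exact absurd (Nat.le_of_ble_eq_true h) (not_le.2 hi)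
  · exact h

end Cfsg.Agent.Lib.Helper56.J3
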