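import Mathlib
import Cfsg.Agent.Lib.Helper56.J3ChkDef

set_option autoImplicit false

namespace Cfsg.Agent.Lib.Helper56.J3

theorem cT_raw : allB fT 15 0 = true := by decide +kernel
theorem cK_raw : allB fK 15 0 = true := by decide +kernel
theorem c1_0_raw : allB (f1 s0c Dtab0) 13 0 = true := by decide +kernel
theorem c1_1_raw : allB (f1 s1c Dtab1) 13 0 = true := by decide +kernel
theorem cT1_raw : allB fT1 13 0 = true := by decide +kernel
theorem cS1_raw : allB fS1 13 0 = true := by decide +kernel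
theorem cL_raw : allB fL 13 0 = true := by decide +kernel
theorem cMisc : Utab 0 = IDc ∧ Wtab a0 = IDc ∧ Ctab0 12085 &&& 8191 = 6449 ∧ Wtab 6449 = s0c ∧ Ctab0 11684 &&& 8191 = 3119 ∧ Wtab 3119 = s1c := by decide +kernel

end Cfsg.Agent.Lib.Helper56.J3
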