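import Mathlib
import Cfsg.Agent.Lib.Helper56.J3ChkC

set_option autoImplicit false

namespace Cfsg.Agent.Lib.Helper56.J3

theorem of_raw {f : ℕ → Bool} {k n : ℕ} {g : ℕ → Bool} (h : allB f k 0 = true) (hn : n ≤ 2 ^ k)
    (hf : ∀ i, f i = (Nat.ble n i || g i)) : ∀ i < n, g i = true := by
  intro i hi
  have h1 := allB_spec f k 0 h i (Nat.zero_le _) (by omega)
  rw [hf, Bool.or_eq_true] at h1
  rcases h1 with h1 | h1
  · exact absurd (Nat.le_of_ble_eq_true h1) (not_le.2 hi)
  · exact h1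

theorem cT : ∀ i < NN, chkT i = true := of_raw cT_raw (by decide) (fun _ => rfl)
theorem c1_0 : ∀ a < n1, chk1 s0c Dtab0 a = true := of_raw c1_0_raw (by decide) (fun _ => rfl)
theorem c1_1 : ∀ a < n1, chk1 s1c Dtab1 a = true := of_raw c1_1_raw (by decide) (fun _ => rfl)
theorem cT1 : ∀ a < n1, chkT1 a = true := of_raw cT1_raw (by decide) (fun _ => rfl)
theorem cL : ∀ a < n1, (Nat.blt 0 (col (Wtab a) 0) && Nat.blt (col (Wtab a) 0) 4) = true :=
  of_raw cL_raw (by decide) (fun _ => rfl)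

theorem lt_of_step (f : ℕ → ℕ) (n : ℕ) (h : ∀ a, a + 1 < n → f a < f (a + 1)) :
    ∀ a b, a < b → b < n → f a < f b := by
  intro a b hab
  induction b, hab using Nat.le_induction with
  | base => intro hb; exact h a hb
  | succ b hb ih => intro hb'; exact lt_trans (ih (by omega)) (h b hb')

theorem inj_of_step (f : ℕ → ℕ) (n : ℕ) (h : ∀ a, a + 1 < n → f a < f (a + 1)) :
    ∀ a < n, ∀ b < n, f a = f b → a = b := by
  intro a ha b hb e
  rcases lt_trichotomy a b with h1 | h1 | h1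
  · exact absurd e (lt_of_step f n h a b h1 hb).ne
  · exact h1
  · exact absurd e (lt_of_step f n h b a h1 ha).ne'

theorem Wtab_inj : ∀ a < n1, ∀ b < n1, Wtab a = Wtab b → a = b := by
  apply inj_of_step
  intro a ha
  have h1 := allB_spec fS1 13 0 cS1_raw a (Nat.zero_le _) (by unfold n1 at ha; omega)
  rw [fS1, Bool.or_eq_true] at h1
  rcases h1 with h1 | h1
  · exact absurd (Nat.le_of_ble_eq_true h1) (not_le.2 ha)
  · exact Nat.blt_eq.mp h1

theorem key_inj : ∀ a < NN, ∀ b < NN, key a = key b → a = b := by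
  apply inj_of_step
  intro a ha
  have h1 := allB_spec fK 15 0 cK_raw a (Nat.zero_le _) (by unfold NN at ha; omega)
  rw [fK, Bool.or_eq_true] at h1
  rcases h1 with h1 | h1
  · exact absurd (Nat.le_of_ble_eq_true h1) (not_le.2 ha)
  · exact Nat.blt_eq.mp h1

end Cfsg.Agent.Lib.Helper56.J3
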