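import Mathlib
import Cfsg.Agent.Lib.Helper56.J3ChkDef

set_option autoImplicit false

namespace Cfsg.Agent.Lib.Helper56.J3

open Cfsg.Spor

section
variable {F : Type*} [Field F] {ω : F}

/-- `F` is the field with four elements `0, 1, ω, 1 + ω`. -/
structure Hyp4 (ω : F) : Prop extends Hyp ω where
  all : ∀ c : F, c = 0 ∨ c = 1 ∨ c = ω ∨ c = 1 + ω

theorem hyp4_of_card [Fintype F] (hF : Fintype.card F = 4) (hω : ω ^ 2 + ω + 1 = 0) : Hyp4 ω := by
  have h4 : (4 : F) = 0 := by
    have := Nat.cast_card_eq_zero F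
    rw [hF] at this
    exact_mod_cast this
  have h2 : (1 : F) + 1 = 0 := by
    have : ((1 : F) + 1) * (1 + 1) = 0 := by ring_nf; exact_mod_cast h4
    rcases mul_self_eq_zero.1 this with h
    exact h
  have hom : ω * ω = ω + 1 := by
    have : ω * ω = ω + 1 - (ω + 1) * (1 + 1) := by linear_combination hω
    rw [this, h2]; ring
  have hh : Hyp ω := ⟨h2, hom⟩
  refine ⟨hh, ?_⟩
  classical
  let f : Fin 4 → F := ![0, 1, ω, 1 + ω]
  have hf : Function.Injective f := by
    have h1 := hh.om_ne_zero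
    have h3 := hh.om_ne_one
    have h5 := hh.one_add_om_ne_zero
    intro a b hab
    fin_cases a <;> fin_cases b <;> simp [f] at hab ⊢
    all_goals first
      | exact h1 hab
      | exact h1 hab.symm
      | exact h3 hab
      | exact h3 hab.symm
      | exact h5 hab
      | exact h5 hab.symm
  have hs : Function.Surjective f :=
    ((Fintype.bijective_iff_injective_and_card f).2 ⟨hf, by simp [hF]⟩).2
  intro c
  obtain ⟨a, rfl⟩ := hs c
  fin_cases a <;> simp [f]

theorem mulw_lt {v : ℕ} (hv : v < 2 ^ 18) : mulw v < 2 ^ 18 := by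
  apply Nat.lt_pow_two_of_testBit
  intro j hj
  have h1 : ∀ k, 18 ≤ k → v.testBit k = false := fun k hk =>
    Nat.testBit_eq_false_of_lt (lt_of_lt_of_le hv (Nat.pow_le_pow_right (by norm_num) hk))
  have h17 : M01.testBit 17 = false := by decide +kernel
  simp only [mulw, Nat.testBit_xor, Nat.testBit_and, Nat.testBit_shiftRight, Nat.testBit_shiftLeft]
  rw [h1 (1 + j) (by omega), h1 j hj]
  rcases Nat.eq_or_lt_of_le hj with rfl | hj'
  · simp [h17]
  · rw [h1 (j - 1) (by omega)]
    simp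

theorem xor_lt {a b : ℕ} (ha : a < 2 ^ 18) (hb : b < 2 ^ 18) : a ^^^ b < 2 ^ 18 :=
  Nat.xor_lt_two_pow ha hb

theorem mulw_mulw (h : Hyp ω) {v : ℕ} (hv : v < 2 ^ 18) : mulw (mulw v) = v ^^^ mulw v := by
  apply decV_injective h (mulw_lt (mulw_lt hv)) (xor_lt hv (mulw_lt hv))
  rw [decV_mulw h, decV_mulw h, decV_xor h, decV_mulw h, smul_smul, h.om, add_smul, one_smul,
    add_comm]

theorem canon_mulw (h : Hyp ω) {v : ℕ} (hv : v < 2 ^ 18) : canon (mulw v) = canon v := by
  have e : mulw v ^^^ (v ^^^ mulw v) = v := by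
    rw [Nat.xor_comm v, ← Nat.xor_assoc, Nat.xor_self, Nat.zero_xor]
  rw [canon, canon, mulw_mulw h hv, e]
  rw [min_comm v, min_assoc]

theorem canon_eq_of_smul (h : Hyp4 ω) {v v' : ℕ} (hv : v < 2 ^ 18) (hv' : v' < 2 ^ 18) {c : F}
    (hc : c ≠ 0) (e : decV ω v' = c • decV ω v) : canon v' = canon v := by
  have hh : Hyp ω := h.toHyp
  rcases h.all c with rfl | rfl | rfl | rfl
  · exact absurd rfl hc
  · rw [one_smul] at e
    rw [decV_injective hh hv' hv e]
  · rw [← decV_mulw hh] at e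
    rw [decV_injective hh hv' (mulw_lt hv) e, canon_mulw hh hv]
  · have e2 : decV ω v' = decV ω (mulw (mulw v)) := by
      rw [e, decV_mulw hh, decV_mulw hh, smul_smul, hh.om, add_comm]
    rw [decV_injective hh hv' (mulw_lt (mulw_lt hv)) e2, canon_mulw hh (mulw_lt hv),
      canon_mulw hh hv]

theorem small_chk : ∀ v < 4, ∀ w : F9, (v >>> (2 * idx w)) % 4 = if w = 0 then v else 0 := by
  decide +kernel

theorem decV_small (ω : F) {v : ℕ} (hv : v < 4) :
    decV ω v = dec4 ω v • (Pi.single (0 : F9) (1 : F) : F9 → F) := by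
  ext w
  rw [decV_apply_of ω _ _ w (small_chk v hv w), Pi.smul_apply, Pi.single_apply]
  split_ifs <;> simp [dec4_zero]

theorem dec4_ne_zero (h : Hyp ω) {v : ℕ} (h0 : 0 < v) (hv : v < 4) : dec4 ω v ≠ 0 := by
  interval_cases v
  · rw [dec4_one]; exact one_ne_zero
  · rw [dec4_two]; exact h.om_ne_zero
  · rw [dec4_three]; exact h.one_add_om_ne_zero

end

end Cfsg.Agent.Lib.Helper56.J3
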