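import Mathlib
import Cfsg.Agent.Lib.Helper56.J3ChkA
import Cfsg.Agent.Lib.Helper56.J3ChkB
import Cfsg.Agent.Lib.Helper56.J3ChkD
import Cfsg.Agent.Lib.Helper56.J3Gens
import Cfsg.Agent.Lib.Helper56.J3Code2

/-!
The order of the triple cover of the third Janko group in `GL₉(4)` (helper56): assembly of the
kernel checked Schreier–Sims tables.
-/

set_option autoImplicit false
set_option linter.unusedSectionVars false

namespace Cfsg.Agent.Lib.Helper56.J3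

open Cfsg.Spor

section
variable {F : Type*} [Field F] {ω : F}

/-- `g` is represented by the code `c`. -/
def Rep (ω : F) (g : GL F9 F) (c : ℕ) : Prop := (g : Matrix F9 F9 F) = decM ω c

theorem Rep.mul (h : Hyp ω) {g g' : GL F9 F} {c c' : ℕ} (h1 : Rep ω g c) (h2 : Rep ω g' c') :
    Rep ω (g * g') (mulCode c c') := by
  unfold Rep at *
  rw [Units.val_mul, h1, h2, decM_mulCode h]

theorem Rep.ext {g g' : GL F9 F} {c : ℕ} (h1 : Rep ω g c) (h2 : Rep ω g' c) : g = g' :=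
  Units.ext (h1.trans h2.symm)

theorem Rep.one : Rep ω (1 : GL F9 F) IDc := by
  unfold Rep
  rw [Units.val_one, decM_IDc]

theorem Rep.of_eq {g : GL F9 F} {c c' : ℕ} (h1 : Rep ω g c) (e : c = c') : Rep ω g c' := e ▸ h1

theorem Rep.mul_ID (h : Hyp ω) {g : GL F9 F} {c : ℕ} (h1 : Rep ω g (mulCode c IDc)) :
    Rep ω g c := by
  unfold Rep at *
  rw [h1, decM_mulCode h, decM_IDc, mul_one]

theorem Rep.inv_mul (h : Hyp ω) {u g : GL F9 F} {a b c : ℕ} (hu : Rep ω u a) (hg : Rep ω g c)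
    (e : c = mulCode a b) : Rep ω (u⁻¹ * g) b := by
  unfold Rep at *
  rw [Units.val_mul, hg, e, decM_mulCode h, ← hu, ← mul_assoc, Units.inv_mul, one_mul]

def mkGL (h : Hyp ω) (a b : ℕ) (h1 : mulCode a b = IDc) (h2 : mulCode b a = IDc) : GL F9 F :=
  ⟨decM ω a, decM ω b, by rw [← decM_mulCode h, h1, decM_IDc],
    by rw [← decM_mulCode h, h2, decM_IDc]⟩

theorem rep_mkGL (h : Hyp ω) (a b : ℕ) (h1 : mulCode a b = IDc) (h2 : mulCode b a = IDc) :
    Rep ω (mkGL h a b h1 h2) a := rfl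

def gD02 (h : Hyp ω) : GL F9 F := mkGL h (cD (0, 2)) cD02i words_chk.2.2.1 words_chk.2.2.2.1
def gD12 (h : Hyp ω) : GL F9 F :=
  mkGL h (cD (1, 2)) cD12i words_chk.2.2.2.2.1 words_chk.2.2.2.2.2.1
def gC10 (h : Hyp ω) : GL F9 F :=
  mkGL h (cC (1, 0)) (cC (1, 0)) words_chk.2.2.2.2.2.2.1 words_chk.2.2.2.2.2.2.1
def gC01 (h : Hyp ω) : GL F9 F :=
  mkGL h (cC (0, 1)) (cC (0, 1)) words_chk.2.2.2.2.2.2.2 words_chk.2.2.2.2.2.2.2

/-- the element of order 19 -/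
def tau0 (h : Hyp ω) : GL F9 F := gD02 h * gD12 h * gC10 h
/-- a conjugate of it -/
def tau1 (h : Hyp ω) : GL F9 F := gC01 h * tau0 h * gC01 h

theorem rep_tau0 (h : Hyp ω) : Rep ω (tau0 h) t0c :=
  (((rep_mkGL h _ _ _ _).mul h (rep_mkGL h _ _ _ _)).mul h (rep_mkGL h _ _ _ _)).of_eq
    words_chk.1.symm

theorem rep_tau1 (h : Hyp ω) : Rep ω (tau1 h) t1c :=
  (((rep_mkGL h _ _ _ _).mul h (rep_tau0 h)).mul h (rep_mkGL h _ _ _ _)).of_eq
    words_chk.2.1.symm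

theorem gC01_mul_self (h : Hyp ω) : gC01 h * gC01 h = 1 :=
  (((rep_mkGL h _ _ _ _).mul h (rep_mkGL h _ _ _ _)).of_eq words_chk.2.2.2.2.2.2.2).ext Rep.one

def KK (h : Hyp ω) : Subgroup (GL F9 F) := Subgroup.closure {tau0 h, tau1 h}

theorem tau0_mem (h : Hyp ω) : tau0 h ∈ KK h := Subgroup.subset_closure (by simp)
theorem tau1_mem (h : Hyp ω) : tau1 h ∈ KK h := Subgroup.subset_closure (by simp)

theorem chk0_spec {t : ℕ} {C : ℕ → ℕ} {i : ℕ} (hc : chk0 t C i = true) :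
    C i >>> 13 < NN ∧ C i &&& 8191 < n1 ∧
      mulCode t (Utab i) = mulCode (Utab (C i >>> 13)) (Wtab (C i &&& 8191)) := by
  rw [chk0, Bool.and_eq_true, Bool.and_eq_true] at hc
  exact ⟨Nat.blt_eq.mp hc.1.1, Nat.blt_eq.mp hc.1.2, Nat.eq_of_beq_eq_true hc.2⟩

/-- the transversal elements belong to the group -/
theorem exists_U (h : Hyp ω) : ∀ i, i < NN → ∃ u ∈ KK h, Rep ω u (Utab i) := by
  refine descent (fun i => i < NN → ∃ u ∈ KK h, Rep ω u (Utab i)) (fun i => Ttab i &&& 31) ?_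
  intro i ih hi
  have hT := cT i hi
  rw [chkT, Bool.or_eq_true] at hT
  rcases hT with hT | hT
  · have : i = 0 := Nat.eq_of_beq_eq_true hT
    subst this
    exact ⟨1, Subgroup.one_mem _, Rep.one.of_eq cMisc.1.symm⟩
  · rw [Bool.and_eq_true, Bool.and_eq_true, Bool.and_eq_true] at hT
    obtain ⟨⟨⟨h1, h2⟩, h3⟩, h4⟩ := hT
    have h1 := Nat.blt_eq.mp h1
    have h2 := Nat.blt_eq.mp h2
    have h3 := Nat.eq_of_beq_eq_true h3
    have h4 := Nat.eq_of_beq_eq_true h4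
    obtain ⟨u, hu, hr⟩ := ih _ h2 h1
    cases hb : (Ttab i).testBit 5
    · rw [hb] at h3 h4
      simp only [cond_false] at h3 h4
      obtain ⟨-, -, e⟩ := chk0_spec (c0_0 _ h1)
      rw [h3, h4, cMisc.2.1] at e
      exact ⟨tau0 h * u, Subgroup.mul_mem _ (tau0_mem h) hu,
        (((rep_tau0 h).mul h hr).of_eq e).mul_ID h⟩
    · rw [hb] at h3 h4
      simp only [cond_true] at h3 h4
      obtain ⟨-, -, e⟩ := chk0_spec (c0_1 _ h1)
      rw [h3, h4, cMisc.2.1] at e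
      exact ⟨tau1 h * u, Subgroup.mul_mem _ (tau1_mem h) hu,
        (((rep_tau1 h).mul h hr).of_eq e).mul_ID h⟩

theorem exists_sigma0 (h : Hyp ω) : ∃ s ∈ KK h, Rep ω s s0c := by
  obtain ⟨h1, -, e⟩ := chk0_spec (c0_0 12085 (by decide))
  obtain ⟨u1, hu1, hr1⟩ := exists_U h 12085 (by decide)
  obtain ⟨u2, hu2, hr2⟩ := exists_U h _ h1
  rw [cMisc.2.2.1, cMisc.2.2.2.1] at e
  exact ⟨u2⁻¹ * (tau0 h * u1),
    Subgroup.mul_mem _ (Subgroup.inv_mem _ hu2) (Subgroup.mul_mem _ (tau0_mem h) hu1),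
    Rep.inv_mul h hr2 ((rep_tau0 h).mul h hr1) e⟩

theorem exists_sigma1 (h : Hyp ω) : ∃ s ∈ KK h, Rep ω s s1c := by
  obtain ⟨h1, -, e⟩ := chk0_spec (c0_0 11684 (by decide))
  obtain ⟨u1, hu1, hr1⟩ := exists_U h 11684 (by decide)
  obtain ⟨u2, hu2, hr2⟩ := exists_U h _ h1
  rw [cMisc.2.2.2.2.1, cMisc.2.2.2.2.2] at e
  exact ⟨u2⁻¹ * (tau0 h * u1),
    Subgroup.mul_mem _ (Subgroup.inv_mem _ hu2) (Subgroup.mul_mem _ (tau0_mem h) hu1),
    Rep.inv_mul h hr2 ((rep_tau0 h).mul h hr1) e⟩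

noncomputable def sigma0 (h : Hyp ω) : GL F9 F := (exists_sigma0 h).choose
noncomputable def sigma1 (h : Hyp ω) : GL F9 F := (exists_sigma1 h).choose
theorem sigma0_mem (h : Hyp ω) : sigma0 h ∈ KK h := (exists_sigma0 h).choose_spec.1
theorem sigma1_mem (h : Hyp ω) : sigma1 h ∈ KK h := (exists_sigma1 h).choose_spec.1
theorem rep_sigma0 (h : Hyp ω) : Rep ω (sigma0 h) s0c := (exists_sigma0 h).choose_spec.2
theorem rep_sigma1 (h : Hyp ω) : Rep ω (sigma1 h) s1c := (exists_sigma1 h).choose_spec.2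

/-- the stabilizer of the first coordinate line -/
def LL (h : Hyp ω) : Subgroup (GL F9 F) := Subgroup.closure {sigma0 h, sigma1 h}

theorem LL_le (h : Hyp ω) : LL h ≤ KK h := by
  rw [LL, Subgroup.closure_le]
  rintro x (rfl | rfl)
  · exact sigma0_mem h
  · exact sigma1_mem h

theorem chk1_spec {s : ℕ} {D : ℕ → ℕ} {a : ℕ} (hc : chk1 s D a = true) :
    D a < n1 ∧ mulCode s (Wtab a) = Wtab (D a) := by
  rw [chk1, Bool.and_eq_true] at hc
  exact ⟨Nat.blt_eq.mp hc.1, Nat.eq_of_beq_eq_true hc.2⟩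

theorem exists_W (h : Hyp ω) : ∀ a, a < n1 → ∃ w ∈ LL h, Rep ω w (Wtab a) := by
  refine descent (fun a => a < n1 → ∃ w ∈ LL h, Rep ω w (Wtab a)) (fun a => Ttab1 a &&& 31) ?_
  intro a ih ha
  have hT := cT1 a ha
  rw [chkT1, Bool.or_eq_true] at hT
  rcases hT with hT | hT
  · have : a = a0 := Nat.eq_of_beq_eq_true hT
    subst this
    exact ⟨1, Subgroup.one_mem _, Rep.one.of_eq cMisc.2.1.symm⟩
  · rw [Bool.and_eq_true, Bool.and_eq_true] at hT
    obtain ⟨⟨h1, h2⟩, h3⟩ := hT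
    have h1 := Nat.blt_eq.mp h1
    have h2 := Nat.blt_eq.mp h2
    have h3 := Nat.eq_of_beq_eq_true h3
    obtain ⟨u, hu, hr⟩ := ih _ h2 h1
    cases hb : (Ttab1 a).testBit 5
    · rw [hb] at h3
      simp only [cond_false] at h3
      obtain ⟨-, e⟩ := chk1_spec (c1_0 _ h1)
      rw [h3] at e
      exact ⟨sigma0 h * u, Subgroup.mul_mem _ (Subgroup.subset_closure (by simp)) hu,
        ((rep_sigma0 h).mul h hr).of_eq e⟩
    · rw [hb] at h3
      simp only [cond_true] at h3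
      obtain ⟨-, e⟩ := chk1_spec (c1_1 _ h1)
      rw [h3] at e
      exact ⟨sigma1 h * u, Subgroup.mul_mem _ (Subgroup.subset_closure (by simp)) hu,
        ((rep_sigma1 h).mul h hr).of_eq e⟩

open Classical in
noncomputable def Uel (h : Hyp ω) (i : ℕ) : GL F9 F :=
  if hi : i < NN then (exists_U h i hi).choose else 1
open Classical in
noncomputable def Wel (h : Hyp ω) (a : ℕ) : GL F9 F :=
  if ha : a < n1 then (exists_W h a ha).choose else 1

theorem Uel_mem (h : Hyp ω) {i : ℕ} (hi : i < NN) : Uel h i ∈ KK h := by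
  rw [Uel, dif_pos hi]; exact (exists_U h i hi).choose_spec.1
theorem rep_Uel (h : Hyp ω) {i : ℕ} (hi : i < NN) : Rep ω (Uel h i) (Utab i) := by
  rw [Uel, dif_pos hi]; exact (exists_U h i hi).choose_spec.2
theorem Wel_mem (h : Hyp ω) {a : ℕ} (ha : a < n1) : Wel h a ∈ LL h := by
  rw [Wel, dif_pos ha]; exact (exists_W h a ha).choose_spec.1
theorem rep_Wel (h : Hyp ω) {a : ℕ} (ha : a < n1) : Rep ω (Wel h a) (Wtab a) := by
  rw [Wel, dif_pos ha]; exact (exists_W h a ha).choose_spec.2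

theorem Wtab_lt (a : ℕ) : Wtab a < 2 ^ 162 := by
  unfold Wtab
  exact lt_of_le_of_lt Nat.and_le_right (by norm_num)

variable [Finite F]

theorem LL_step (h : Hyp ω) : ∀ t ∈ ({sigma0 h, sigma1 h} : Set (GL F9 F)), ∀ a < n1,
    ∃ j < n1, ∃ l ∈ (⊥ : Subgroup (GL F9 F)), t * Wel h a = Wel h j * l := by
  rintro t (rfl | rfl) a ha
  · obtain ⟨h1, e⟩ := chk1_spec (c1_0 a ha)
    exact ⟨_, h1, 1, Subgroup.one_mem _, by
      rw [mul_one]; exact (((rep_sigma0 h).mul h (rep_Wel h ha)).of_eq e).ext (rep_Wel h h1)⟩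
  · obtain ⟨h1, e⟩ := chk1_spec (c1_1 a ha)
    exact ⟨_, h1, 1, Subgroup.one_mem _, by
      rw [mul_one]; exact (((rep_sigma1 h).mul h (rep_Wel h ha)).of_eq e).ext (rep_Wel h h1)⟩

theorem Wel_a0 (h : Hyp ω) : Wel h a0 = 1 :=
  ((rep_Wel h (by decide)).of_eq cMisc.2.1).ext Rep.one

theorem mem_LL (h : Hyp ω) {l : GL F9 F} (hl : l ∈ LL h) : ∃ a < n1, l = Wel h a := by
  obtain ⟨a, ha, l', hl', e⟩ := mem_table_of_mem_closure (i0 := a0) (by decide) (Wel_a0 h)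
    (LL_step h) hl
  rw [Subgroup.mem_bot] at hl'
  exact ⟨a, ha, by rw [e, hl', mul_one]⟩

theorem Wel_inj (h : Hyp ω) {a b : ℕ} (ha : a < n1) (hb : b < n1) (e : Wel h a = Wel h b) :
    a = b := by
  apply Wtab_inj a ha b hb
  apply decM_injective h (Wtab_lt a) (Wtab_lt b)
  rw [← rep_Wel h ha, ← rep_Wel h hb, e]

theorem card_LL (h : Hyp ω) : Nat.card (LL h) = n1 := by
  have := card_closure_of_table (i0 := a0) (by decide) (Wel_a0 h) (LL_step h)
    (fun a ha => Wel_mem h ha) bot_le (by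
      intro a ha b hb l hl l' hl' e
      rw [Subgroup.mem_bot] at hl hl'
      rw [hl, hl', mul_one, mul_one] at e
      exact Wel_inj h ha hb e)
  rw [LL, this]
  simp

theorem KK_step (h : Hyp ω) : ∀ t ∈ ({tau0 h, tau1 h} : Set (GL F9 F)), ∀ i < NN,
    ∃ j < NN, ∃ l ∈ LL h, t * Uel h i = Uel h j * l := by
  rintro t (rfl | rfl) i hi
  · obtain ⟨h1, h2, e⟩ := chk0_spec (c0_0 i hi)
    exact ⟨_, h1, _, Wel_mem h h2,
      (((rep_tau0 h).mul h (rep_Uel h hi)).of_eq e).ext ((rep_Uel h h1).mul h (rep_Wel h h2))⟩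
  · obtain ⟨h1, h2, e⟩ := chk0_spec (c0_1 i hi)
    exact ⟨_, h1, _, Wel_mem h h2,
      (((rep_tau1 h).mul h (rep_Uel h hi)).of_eq e).ext ((rep_Uel h h1).mul h (rep_Wel h h2))⟩

theorem Uel_zero (h : Hyp ω) : Uel h 0 = 1 :=
  ((rep_Uel h (by decide)).of_eq cMisc.1).ext Rep.one

/-- every element of the group is `U i * W a` -/
theorem mem_KK (h : Hyp ω) {g : GL F9 F} (hg : g ∈ KK h) :
    ∃ i < NN, ∃ a < n1, g = Uel h i * Wel h a := by
  obtain ⟨i, hi, l, hl, e⟩ := mem_table_of_mem_closure (i0 := 0) (by decide) (Uel_zero h)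
    (KK_step h) hg
  obtain ⟨a, ha, rfl⟩ := mem_LL h hl
  exact ⟨i, hi, a, ha, e⟩

/-- the first basis vector -/
def e0 (F : Type*) [Field F] : F9 → F := Pi.single (0 : F9) (1 : F)

theorem Wel_e0 (h : Hyp ω) {a : ℕ} (ha : a < n1) :
    ∃ c : F, c ≠ 0 ∧ (Wel h a : Matrix F9 F9 F).mulVec (e0 F) = c • e0 F := by
  have hL := cL a ha
  rw [Bool.and_eq_true] at hL
  have h1 := Nat.blt_eq.mp hL.1
  have h2 := Nat.blt_eq.mp hL.2
  refine ⟨dec4 ω (col (Wtab a) 0), dec4_ne_zero h h1 h2, ?_⟩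
  rw [rep_Wel h ha, e0, decM_mulVec_single, ← decV_col, decV_small ω h2]

theorem UW_e0 (h : Hyp ω) {i a : ℕ} (hi : i < NN) (ha : a < n1) :
    ∃ c : F, c ≠ 0 ∧ ((Uel h i * Wel h a : GL F9 F) : Matrix F9 F9 F).mulVec (e0 F)
      = c • decV ω (col (Utab i) 0) := by
  obtain ⟨c, hc, e⟩ := Wel_e0 h ha
  refine ⟨c, hc, ?_⟩
  rw [Units.val_mul, ← Matrix.mulVec_mulVec, e, Matrix.mulVec_smul, rep_Uel h hi, e0,
    decM_mulVec_single, decV_col]

theorem index_eq_of_smul (h : Hyp4 ω) {i j : ℕ} (hi : i < NN) (hj : j < NN) {c d : F} (hc : c ≠ 0)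
    (hd : d ≠ 0) (e : c • decV ω (col (Utab i) 0) = d • decV ω (col (Utab j) 0)) : i = j := by
  apply key_inj i hi j hj
  have e2 : decV ω (col (Utab i) 0) = (c⁻¹ * d) • decV ω (col (Utab j) 0) := by
    rw [mul_smul, ← e, smul_smul, inv_mul_cancel₀ hc, one_smul]
  exact canon_eq_of_smul h (col_lt _ _) (col_lt _ _) (mul_ne_zero (inv_ne_zero hc) hd) e2

theorem card_KK (h : Hyp4 ω) : Nat.card (KK h.toHyp) = 150698880 := by
  have hh := h.toHyp
  have := card_closure_of_table (i0 := 0) (by decide) (Uel_zero hh) (KK_step hh)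
    (fun i hi => Uel_mem hh hi) (LL_le hh) (by
      intro i hi j hj l hl l' hl' e
      obtain ⟨a, ha, rfl⟩ := mem_LL hh hl
      obtain ⟨b, hb, rfl⟩ := mem_LL hh hl'
      obtain ⟨c, hc, e1⟩ := UW_e0 hh hi ha
      obtain ⟨d, hd, e2⟩ := UW_e0 hh hj hb
      rw [e, e2] at e1
      exact (index_eq_of_smul h hj hi hd hc e1).symm)
  rw [KK, this, card_LL]
  decide

end

end Cfsg.Agent.Lib.Helper56.J3
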