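import Mathlib
import Cfsg.Agent.Lib.Helper56.J3Main
import Cfsg.Agent.Lib.Helper56.J3ChkX

/-!
The centralizer of the element of order 19 in the triple cover of the third Janko group (helper56).
-/

set_option autoImplicit false
set_option linter.unusedSectionVars false

namespace Cfsg.Agent.Lib.Helper56.J3

open Cfsg.Spor

section
variable {F : Type*} [Field F] [Finite F] {ω : F}

theorem decM_smulC (h : Hyp ω) (c A : ℕ) : decM ω (smulC c A) = dec4 ω c • decM ω A := by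
  rw [smulC, decM_xor h, dec4, add_smul]
  congr 1
  · cases c.testBit 0 <;> simp [bF, decM_zero]
  · cases c.testBit 1 <;> simp [bF, decM_zero, decM_mulw h]

theorem comm_horner (h : Hyp ω) (M : Matrix F9 F9 F) (x : ℕ)
    (hM : M * decM ω x = decM ω x * M) :
    ∀ cs : List ℕ, M * decM ω (horner x cs) = decM ω (horner x cs) * M
  | [] => by simp [horner, decM_zero]
  | c :: cs => by
    have ih := comm_horner h M x hM cs
    rw [horner, decM_xor h, decM_smulC h, decM_IDc, decM_mulCode h, mul_add, add_mul]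
    congr 1
    · simp
    · rw [← mul_assoc, hM, mul_assoc, ih, mul_assoc]

theorem decV_single (ω : F) (z : F9) : decV ω (1 <<< (2 * idx z)) = Pi.single z 1 := by
  ext w
  rw [decV_apply_of _ _ _ w (single_chk z w), Pi.single_apply]
  split_ifs <;> simp [dec4_one, dec4_zero]

theorem P_e0 (ω : F) (z : F9) : (decM ω (Pcode (idx z))).mulVec (e0 F) = Pi.single z 1 := by
  rw [e0, decM_mulVec_single, ← decV_col, (P_chk _ (idx_lt z)).2, decV_single]

theorem P_comm (h : Hyp ω) (M : Matrix F9 F9 F) (hM : M * decM ω t0c = decM ω t0c * M) (z : ℕ)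
    (hz : z < 9) : M * decM ω (Pcode z) = decM ω (Pcode z) * M := by
  rw [(P_chk z hz).1]
  exact comm_horner h M t0c hM _

theorem siftOK_spec {s c : ℕ} (hs : siftOK s c = true) :
    s >>> 13 < NN ∧ s &&& 8191 < n1 ∧ mulCode (Utab (s >>> 13)) (Wtab (s &&& 8191)) = c := by
  rw [siftOK, Bool.and_eq_true, Bool.and_eq_true] at hs
  exact ⟨Nat.blt_eq.mp hs.1.1, Nat.blt_eq.mp hs.1.2, Nat.eq_of_beq_eq_true hs.2⟩

theorem exists_of_sift (h : Hyp ω) {s c : ℕ} (hs : siftOK s c = true) :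
    ∃ d ∈ KK h, Rep ω d c := by
  obtain ⟨h1, h2, e⟩ := siftOK_spec hs
  exact ⟨Uel h _ * Wel h _, Subgroup.mul_mem _ (Uel_mem h h1) (LL_le h (Wel_mem h h2)),
    ((rep_Uel h h1).mul h (rep_Wel h h2)).of_eq e⟩

theorem exists_delta (h : Hyp ω) (Z : F9) :
    ∃ d ∈ KK h, (d : Matrix F9 F9 F).mulVec (e0 F) = Pi.single Z 1 := by
  obtain ⟨d, hd, hr⟩ := exists_of_sift h (sift_D Z)
  refine ⟨d, hd, ?_⟩
  rw [hr, e0, decM_mulVec_single]
  ext w
  rw [decV_apply_of _ _ _ w (cD_col_chk Z w), Pi.single_apply]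
  split_ifs <;> simp [dec4_one, dec4_zero]

theorem code_of_smul (h : Hyp4 ω) {v v' : ℕ} (hv : v < 2 ^ 18) (hv' : v' < 2 ^ 18) {c : F}
    (hc : c ≠ 0) (e : decV ω v' = c • decV ω v) : v' = v ∨ v' = mulw v ∨ v' = v ^^^ mulw v := by
  have hh : Hyp ω := h.toHyp
  rcases h.all c with rfl | rfl | rfl | rfl
  · exact absurd rfl hc
  · rw [one_smul] at e
    exact Or.inl (decV_injective hh hv' hv e)
  · rw [← decV_mulw hh] at e
    exact Or.inr (Or.inl (decV_injective hh hv' (mulw_lt hv) e))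
  · have e2 : decV ω v' = decV ω (v ^^^ mulw v) := by
      rw [e, decV_xor hh, decV_mulw hh, add_smul, one_smul]
    exact Or.inr (Or.inr (decV_injective hh hv' (xor_lt hv (mulw_lt hv)) e2))

theorem pt_lt (i : ℕ) : pt i < 2 ^ 18 := col_lt _ _

theorem inOm_of (h : Hyp4 ω) {v j : ℕ} (hj : j < NN) (hv : v < 2 ^ 18) {c : F} (hc : c ≠ 0)
    (e : decV ω v = c • decV ω (pt j)) : inOm v = true := by
  have h1 := allB_spec fM 15 0 cM_raw j (Nat.zero_le _) (by unfold NN at hj; omega)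
  rw [fM, Bool.or_eq_true] at h1
  rcases h1 with h1 | h1
  · exact absurd (Nat.le_of_ble_eq_true h1) (not_le.2 hj)
  · rw [Bool.and_eq_true, Bool.and_eq_true] at h1
    rcases code_of_smul h (pt_lt j) hv hc e with rfl | rfl | rfl
    · exact h1.1.1
    · exact h1.1.2
    · exact h1.2

theorem rep_pow (h : Hyp ω) : ∀ k < 19, Rep ω (tau0 h ^ k) (xpow k) := by
  intro k
  induction k with
  | zero => intro _; rw [pow_zero]; exact Rep.one.of_eq xpow_chk.1.symm
  | succ k ih =>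
    intro hk
    rw [pow_succ']
    exact ((rep_tau0 h).mul h (ih (by omega))).of_eq (xpow_chk.2.1 k (by omega)).symm

theorem tau0_pow (h : Hyp ω) : tau0 h ^ 19 = 1 := by
  rw [pow_succ']
  exact (((rep_tau0 h).mul h (rep_pow h 18 (by norm_num))).of_eq xpow_chk.2.2).ext Rep.one

theorem tau0_ne_one (h : Hyp ω) : tau0 h ≠ 1 := by
  intro e
  have h1 : decM ω t0c = decM ω IDc := by
    rw [← rep_tau0 h, e]; exact Rep.one
  exact misc_chk.2.2.2.1 (decM_injective h misc_chk.2.2.1 misc_chk.2.2.2.2.1 h1)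

theorem orderOf_tau0 (h : Hyp ω) : orderOf (tau0 h) = 19 :=
  haveI : Fact (Nat.Prime 19) := ⟨by norm_num⟩
  orderOf_eq_prime (tau0_pow h) (tau0_ne_one h)

theorem tau_not_comm (h : Hyp ω) : tau0 h * tau1 h ≠ tau1 h * tau0 h := by
  intro e
  have h1 : decM ω (mulCode t0c t1c) = decM ω (mulCode t1c t0c) := by
    rw [← (rep_tau0 h).mul h (rep_tau1 h), e]; exact (rep_tau1 h).mul h (rep_tau0 h)
  exact misc_chk.2.2.2.2.2.2.2.1
    (decM_injective h misc_chk.2.2.2.2.2.1 misc_chk.2.2.2.2.2.2.1 h1)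

/-- The centralizer of the element of order 19. -/
theorem centralizer_tau0 (h : Hyp4 ω) {g : GL F9 F} (hg : g ∈ KK h.toHyp)
    (hc : g * tau0 h.toHyp = tau0 h.toHyp * g) :
    ∃ k : ℕ, ∃ ζ ∈ KK h.toHyp, ∃ lam : F, (ζ : Matrix F9 F9 F) = lam • 1 ∧
      g = tau0 h.toHyp ^ k * ζ := by
  have hh := h.toHyp
  obtain ⟨i, hi, a, ha, eg⟩ := mem_KK hh hg
  obtain ⟨c, hc0, e1⟩ := UW_e0 hh hi ha
  rw [← eg] at e1
  have comm_of : ∀ g' : GL F9 F, g' * tau0 hh = tau0 hh * g' →
      (g' : Matrix F9 F9 F) * decM ω t0c = decM ω t0c * (g' : Matrix F9 F9 F) := by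
    intro g' hc'
    have := congrArg Units.val hc'
    rwa [Units.val_mul, Units.val_mul, rep_tau0 hh] at this
  have hM := comm_of g hc
  have htst : ∀ z : F9, tst (idx z) i = true := by
    intro z
    obtain ⟨d, hd, ed⟩ := exists_delta hh z
    obtain ⟨j, hj, b, hb, e2⟩ := mem_KK hh (Subgroup.mul_mem _ hg hd)
    obtain ⟨c', hc', e3⟩ := UW_e0 hh hj hb
    have e4 : (g : Matrix F9 F9 F).mulVec (Pi.single z 1) = c' • decV ω (pt j) := by
      rw [← ed, Matrix.mulVec_mulVec, ← Units.val_mul, e2, e3]; rfl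
    have e5 : (g : Matrix F9 F9 F).mulVec (Pi.single z 1)
        = c • decV ω (mulCode (Pcode (idx z)) (pt i)) := by
      rw [← P_e0 ω z, Matrix.mulVec_mulVec, P_comm hh _ hM _ (idx_lt z), ← Matrix.mulVec_mulVec, e1,
        Matrix.mulVec_smul, decV_mulCode hh]; rfl
    have e6 : decV ω (col (mulCode (Pcode (idx z)) (pt i)) 0) = (c⁻¹ * c') • decV ω (pt j) := by
      rw [decV_col, mul_smul, ← e4, e5, smul_smul, inv_mul_cancel₀ hc0, one_smul]
    exact inOm_of h hj (col_lt _ _) (mul_ne_zero (inv_ne_zero hc0) hc') e6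
  have halive : alive i = true := by
    have t := fun k (hk : k < 9) => (idx_unidx k hk) ▸ htst (unidx k)
    simp only [alive, Bool.and_eq_true]
    exact ⟨⟨⟨⟨⟨⟨t 1 (by norm_num), t 2 (by norm_num)⟩, t 3 (by norm_num)⟩, t 4 (by norm_num)⟩,
      t 5 (by norm_num)⟩, t 6 (by norm_num)⟩, t 7 (by norm_num)⟩
  have hX := allB_spec fX 15 0 cX_raw i (Nat.zero_le _) (by unfold NN at hi; omega)
  rw [fX, Bool.or_eq_true, Bool.or_eq_true, halive] at hX
  have hX' : isX i = true := by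
    rcases hX with (hX | hX) | hX
    · exact absurd (Nat.le_of_ble_eq_true hX) (not_le.2 hi)
    · simp at hX
    · exact hX
  rw [isX, List.any_eq_true] at hX'
  obtain ⟨k, hk, hXk⟩ := hX'
  rw [List.mem_range] at hk
  have hs : ∃ s : F, s ≠ 0 ∧ decV ω (pt i) = s • decV ω (xpow k) := by
    rw [isXk, Bool.or_eq_true, Bool.or_eq_true] at hXk
    rcases hXk with (hXk | hXk) | hXk
    · exact ⟨1, one_ne_zero, by rw [Nat.eq_of_beq_eq_true hXk, decV_col, one_smul]⟩
    · exact ⟨ω, hh.om_ne_zero, by rw [Nat.eq_of_beq_eq_true hXk, decV_mulw hh, decV_col]⟩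
    · exact ⟨1 + ω, hh.one_add_om_ne_zero, by
        rw [Nat.eq_of_beq_eq_true hXk, decV_xor hh, decV_mulw hh, decV_col, add_smul, one_smul]⟩
  obtain ⟨s, hs0, es⟩ := hs
  have exk : ((tau0 hh ^ k : GL F9 F) : Matrix F9 F9 F).mulVec (e0 F) = decV ω (xpow k) := by
    rw [rep_pow hh k hk, e0, decM_mulVec_single]
  set y : GL F9 F := (tau0 hh ^ k)⁻¹ * g with hy
  have hy0 : (y : Matrix F9 F9 F).mulVec (e0 F) = (c * s) • e0 F := by
    have e7 : (g : Matrix F9 F9 F).mulVec (e0 F)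
        = (c * s) • ((tau0 hh ^ k : GL F9 F) : Matrix F9 F9 F).mulVec (e0 F) := by
      rw [e1, exk, mul_smul, ← es]; rfl
    rw [hy, Units.val_mul, ← Matrix.mulVec_mulVec, e7, Matrix.mulVec_smul, Matrix.mulVec_mulVec,
      Units.inv_mul, Matrix.one_mulVec]
  have hyc : y * tau0 hh = tau0 hh * y := by
    have h1 : Commute (tau0 hh) g := hc.symm
    have h2 : Commute (tau0 hh) ((tau0 hh ^ k)⁻¹) := ((Commute.refl _).pow_right k).inv_right
    exact (h2.mul_right h1).symm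
  have hyM := comm_of y hyc
  have hyall : (y : Matrix F9 F9 F) = (c * s) • 1 := by
    apply Matrix.ext_of_mulVec_single
    intro z
    rw [← P_e0 ω z, Matrix.mulVec_mulVec, P_comm hh _ hyM _ (idx_lt z), ← Matrix.mulVec_mulVec, hy0,
      Matrix.mulVec_smul, Matrix.smul_mulVec, Matrix.one_mulVec]
  refine ⟨k, y, ?_, c * s, hyall, ?_⟩
  · exact Subgroup.mul_mem _ (Subgroup.inv_mem _ (Subgroup.pow_mem _ (tau0_mem hh) k)) hg
  · rw [hy, mul_inv_cancel_left]

end

end Cfsg.Agent.Lib.Helper56.J3
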