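import Mathlib
import Cfsg.Agent.Lib.Helper56.J3Cent

/-!
Order, centre and simplicity of the central quotient of the triple cover of the third Janko group in
`GL₉(4)` (helper56).
-/

set_option autoImplicit false
set_option linter.unusedSectionVars false

namespace Cfsg.Agent.Lib.Helper56.J3

open Cfsg.Spor

theorem isSimpleGroup_quotient_of {G : Type*} [Group G] (Z : Subgroup G) [Z.Normal] (hne : Z ≠ ⊤)
    (h : ∀ N : Subgroup G, N.Normal → N ≤ Z ∨ N = ⊤) : IsSimpleGroup (G ⧸ Z) := by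
  have hnt : Nontrivial (G ⧸ Z) := by
    by_contra hcon
    rw [not_nontrivial_iff_subsingleton] at hcon
    apply hne
    rw [eq_top_iff]
    intro g _
    rw [← QuotientGroup.eq_one_iff]
    exact Subsingleton.elim _ _
  refine ⟨fun N hN => ?_⟩
  rcases h (N.comap (QuotientGroup.mk' Z)) inferInstance with h1 | h1
  · left
    rw [eq_bot_iff]
    intro q hq
    obtain ⟨g, rfl⟩ := QuotientGroup.mk'_surjective Z q
    rw [Subgroup.mem_bot]
    exact (QuotientGroup.eq_one_iff g).2 (h1 hq)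
  · right
    rw [eq_top_iff]
    intro q _
    obtain ⟨g, rfl⟩ := QuotientGroup.mk'_surjective Z q
    have : g ∈ N.comap (QuotientGroup.mk' Z) := by rw [h1]; trivial
    exact this

theorem hnum19 : ∀ r a d : ℕ, r.Prime → r ≠ 19 → r ^ a ∣ 150698880 → d ∣ 3 → d ∣ r ^ a →
    r ^ a ≡ d [MOD 19] → r ^ a = d := by
  intro r a d hr hr19 hdvd hd hda hmod
  have hd' : d = 1 ∨ d = 3 := (Nat.dvd_prime Nat.prime_three).1 hd
  rcases Nat.eq_zero_or_pos a with rfl | ha
  · rw [pow_zero] at hda ⊢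
    exact (Nat.dvd_one.1 hda).symm
  have hrn : r ∣ 2 ^ 7 * 3 ^ 6 * 5 * 17 * 19 :=
    dvd_trans (dvd_pow_self r ha.ne') (by norm_num; exact hdvd)
  have hcases : r = 2 ∨ r = 3 ∨ r = 5 ∨ r = 17 := by
    rcases (Nat.Prime.dvd_mul hr).1 hrn with h1 | h1
    · rcases (Nat.Prime.dvd_mul hr).1 h1 with h2 | h2
      · rcases (Nat.Prime.dvd_mul hr).1 h2 with h3 | h3
        · rcases (Nat.Prime.dvd_mul hr).1 h3 with h4 | h4
          · exact Or.inl ((Nat.prime_dvd_prime_iff_eq hr Nat.prime_two).1 (hr.dvd_of_dvd_pow h4))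
          · exact Or.inr (Or.inl
              ((Nat.prime_dvd_prime_iff_eq hr Nat.prime_three).1 (hr.dvd_of_dvd_pow h4)))
        · exact Or.inr (Or.inr (Or.inl ((Nat.prime_dvd_prime_iff_eq hr (by norm_num)).1 h3)))
      · exact Or.inr (Or.inr (Or.inr ((Nat.prime_dvd_prime_iff_eq hr (by norm_num)).1 h2)))
    · exact absurd ((Nat.prime_dvd_prime_iff_eq hr (by norm_num)).1 h1) hr19
  have bound : ∀ (q m : ℕ), ¬ q ^ m ∣ 150698880 → q ^ a ∣ 150698880 → a < m := by
    intro q m h1 h2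
    by_contra hcon
    exact h1 (dvd_trans (pow_dvd_pow q (not_lt.1 hcon)) h2)
  rcases hcases with rfl | rfl | rfl | rfl
  · have := bound 2 8 (by decide) hdvd
    interval_cases a <;> rcases hd' with rfl | rfl <;> revert hmod hda <;> decide
  · have := bound 3 7 (by decide) hdvd
    interval_cases a <;> rcases hd' with rfl | rfl <;> revert hmod hda <;> decide
  · have := bound 5 2 (by decide) hdvd
    interval_cases a <;> rcases hd' with rfl | rfl <;> revert hmod hda <;> decide
  · have := bound 17 2 (by decide) hdvd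
    interval_cases a <;> rcases hd' with rfl | rfl <;> revert hmod hda <;> decide

section
variable {F : Type*} [Field F] [Finite F] {ω : F}

theorem threeJ3_eq (h : Hyp ω) : threeJ3 F ω = KK h := by
  apply le_antisymm
  · rw [threeJ3, Subgroup.closure_le]
    intro g hg
    have key : ∀ s c : ℕ, siftOK s c = true → (g : Matrix F9 F9 F) = decM ω c → g ∈ KK h := by
      intro s c hs e
      obtain ⟨d, hd, hr⟩ := exists_of_sift h hs
      have : g = d := Units.ext (e.trans hr.symm)
      rw [this]; exact hd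
    rcases hg with (((⟨Z, e⟩ | ⟨Z, e⟩) | ⟨Z, e⟩) | ⟨Z, hZ, e⟩) | ⟨Z, hZ, e⟩
    · exact key _ _ (sift_A Z) (by rw [decM_cA h]; exact e.symm)
    · exact key _ _ (sift_E Z) (by rw [decM_cE h]; exact e.symm)
    · exact key _ _ (sift_D Z) (by rw [decM_cD h]; exact e.symm)
    · exact key _ _ (sift_B Z hZ) (by rw [decM_cB]; exact e)
    · exact key _ _ (sift_C Z hZ) (by rw [decM_cC]; exact e)
  · have hD : ∀ (Z : F9) (g : GL F9 F), Rep ω g (cD Z) → g ∈ threeJ3 F ω := by
      intro Z g hg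
      apply Subgroup.subset_closure
      show (g : Matrix F9 F9 F) ∈ j3Gens F ω
      rw [hg, decM_cD h]
      exact Or.inl (Or.inl (Or.inr ⟨Z, rfl⟩))
    have hC : ∀ (Z : F9) (g : GL F9 F), Z ≠ 0 → Rep ω g (cC Z) → g ∈ threeJ3 F ω := by
      intro Z g hZ hg
      apply Subgroup.subset_closure
      show (g : Matrix F9 F9 F) ∈ j3Gens F ω
      rw [hg, decM_cC]
      exact Or.inr ⟨Z, hZ, rfl⟩
    have h0 : tau0 h ∈ threeJ3 F ω :=
      Subgroup.mul_mem _ (Subgroup.mul_mem _ (hD _ _ (rep_mkGL h _ _ _ _))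
        (hD _ _ (rep_mkGL h _ _ _ _))) (hC _ _ (by decide) (rep_mkGL h _ _ _ _))
    have h01 : gC01 h ∈ threeJ3 F ω := hC _ _ (by decide) (rep_mkGL h _ _ _ _)
    rw [KK, Subgroup.closure_le]
    rintro x (rfl | rfl)
    · exact h0
    · exact Subgroup.mul_mem _ (Subgroup.mul_mem _ h01 h0) h01

theorem gC01_mem (h : Hyp ω) : gC01 h ∈ KK h := by
  obtain ⟨d, hd, hr⟩ := exists_of_sift h (sift_C (0, 1) (by decide))
  have e : gC01 h = d := (rep_mkGL h _ _ _ _ : Rep ω (gC01 h) (cC (0, 1))).ext hr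
  rw [e]
  exact hd

theorem om_cube (h : Hyp ω) : ω ^ 3 = 1 := by
  linear_combination (ω + 1) * h.om + ω * h.two

/-- the scalar `ω` -/
noncomputable def zeta (h : Hyp ω) : GL F9 F := Wel h aOm

theorem zeta_mem (h : Hyp ω) : zeta h ∈ KK h := LL_le h (Wel_mem h misc_chk.2.1)

theorem zeta_val (h : Hyp ω) : (zeta h : Matrix F9 F9 F) = ω • 1 := by
  have : Rep ω (zeta h) (mulw IDc) := (rep_Wel h misc_chk.2.1).of_eq misc_chk.1
  rw [this, decM_mulw h, decM_IDc]

theorem main_KK (h : Hyp4 ω) :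
    Nat.card (Subgroup.center (KK h.toHyp)) = 3 ∧ Nat.card (KK h.toHyp) = 150698880 ∧
      Nat.card (KK h.toHyp ⧸ Subgroup.center (KK h.toHyp)) = 50232960 ∧
      IsSimpleGroup (KK h.toHyp ⧸ Subgroup.center (KK h.toHyp)) := by
  have hh := h.toHyp
  have hcard := card_KK h
  set K := KK h.toHyp with hK
  let x : K := ⟨tau0 hh, tau0_mem hh⟩
  let y : K := ⟨tau1 hh, tau1_mem hh⟩
  let cc : K := ⟨gC01 hh, gC01_mem hh⟩
  let z0 : K := ⟨zeta hh, zeta_mem hh⟩
  have hp : Fact (Nat.Prime 19) := ⟨by norm_num⟩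
  have hp3 : Fact (Nat.Prime 3) := ⟨by norm_num⟩
  have hx : orderOf x = 19 := by
    rw [← orderOf_tau0 hh]
    exact Subgroup.orderOf_mk _ _
  have hz3 : z0 ^ 3 = 1 := by
    apply Subtype.ext
    apply Units.ext
    show ((zeta hh ^ 3 : GL F9 F) : Matrix F9 F9 F) = 1
    rw [Units.val_pow_eq_pow_val, zeta_val, smul_pow, one_pow, om_cube hh, one_smul]
  have hz1 : z0 ≠ 1 := by
    intro e
    have e1 : (zeta hh : Matrix F9 F9 F) = 1 := by
      have := congrArg (fun k : K => ((k : GL F9 F) : Matrix F9 F9 F)) e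
      exact this
    rw [zeta_val] at e1
    have := congrFun (congrFun e1 0) 0
    simp at this
    exact hh.om_ne_one this
  have hz : orderOf z0 = 3 := orderOf_eq_prime hz3 hz1
  let Z : Subgroup K := Subgroup.zpowers z0
  have hZcard : Nat.card Z = 3 := by rw [Nat.card_zpowers, hz]
  have hz0c : z0 ∈ Subgroup.center K := by
    rw [Subgroup.mem_center_iff]
    intro g
    apply Subtype.ext
    apply Units.ext
    show ((g : GL F9 F) : Matrix F9 F9 F) * (zeta hh : Matrix F9 F9 F)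
      = (zeta hh : Matrix F9 F9 F) * ((g : GL F9 F) : Matrix F9 F9 F)
    rw [zeta_val]
    simp
  have hZle : Z ≤ Subgroup.center K := Subgroup.zpowers_le.2 hz0c
  have hZc : ∀ z ∈ Z, ∀ g : K, z * g = g * z := fun z hz g =>
    ((Subgroup.mem_center_iff.1 (hZle hz)) g).symm
  have hC : ∀ g : K, g * x = x * g → ∃ k : ℕ, ∃ z ∈ Z, g = x ^ k * z := by
    intro g hg
    have hg' : (g : GL F9 F) * tau0 hh = tau0 hh * (g : GL F9 F) := congrArg Subtype.val hg
    obtain ⟨k, ζ, hζ, lam, e1, e2⟩ := centralizer_tau0 h g.2 hg'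
    refine ⟨k, ⟨ζ, hζ⟩, ?_, Subtype.ext e2⟩
    rcases h.all lam with rfl | rfl | rfl | rfl
    · exfalso
      have : (ζ : Matrix F9 F9 F) * ((ζ⁻¹ : GL F9 F) : Matrix F9 F9 F) = 1 := Units.mul_inv ζ
      rw [e1, zero_smul, zero_mul] at this
      exact zero_ne_one this
    · have : (⟨ζ, hζ⟩ : K) = 1 := Subtype.ext (Units.ext (by rw [e1, one_smul]; rfl))
      rw [this]; exact Subgroup.one_mem _
    · have : (⟨ζ, hζ⟩ : K) = z0 := Subtype.ext (Units.ext (by rw [e1]; exact (zeta_val hh).symm))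
      rw [this]; exact Subgroup.mem_zpowers _
    · have : (⟨ζ, hζ⟩ : K) = z0 ^ 2 := by
        apply Subtype.ext
        apply Units.ext
        show (ζ : Matrix F9 F9 F) = ((zeta hh ^ 2 : GL F9 F) : Matrix F9 F9 F)
        rw [e1, Units.val_pow_eq_pow_val, zeta_val, smul_pow, one_pow, pow_two, hh.om, add_comm]
      rw [this]; exact Subgroup.pow_mem _ (Subgroup.mem_zpowers _) 2
  have hnormal : ∀ N : Subgroup K, N.Normal → N ≤ Z ∨ x ∈ N := by
    intro N hN
    exact normal_le_or_mem 19 x Z hx (by rw [hcard]; decide) hC hZc (by rw [hZcard]; decide)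
      (by rw [hcard, hZcard]; exact hnum19) N
  have hxy : x * y ≠ y * x := fun e => tau_not_comm hh (congrArg Subtype.val e)
  have hcenter : Subgroup.center K = Z := by
    apply le_antisymm _ hZle
    rcases hnormal (Subgroup.center K) inferInstance with h1 | h1
    · exact h1
    · exact absurd ((Subgroup.mem_center_iff.1 h1 y).symm) hxy
  have htop : ∀ N : Subgroup K, N.Normal → x ∈ N → N = ⊤ := by
    intro N hN hxN
    have hyN : y ∈ N := by
      have e : y = cc * x * cc⁻¹ := by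
        have hcc : cc⁻¹ = cc := by
          rw [inv_eq_iff_mul_eq_one]
          exact Subtype.ext (gC01_mul_self hh)
        rw [hcc]
        rfl
      rw [e]
      exact hN.conj_mem x hxN cc
    rw [eq_top_iff]
    rintro ⟨g, hg⟩ _
    have hle : K ≤ N.map K.subtype := by
      have hcl : Subgroup.closure {tau0 hh, tau1 hh} ≤ N.map K.subtype := by
        rw [Subgroup.closure_le]
        rintro t (rfl | rfl)
        · exact ⟨x, hxN, rfl⟩
        · exact ⟨y, hyN, rfl⟩
      exact hcl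
    obtain ⟨g', hg', e⟩ := hle hg
    have : g' = ⟨g, hg⟩ := Subtype.ext e
    rw [← this]; exact hg'
  have hq : Nat.card (K ⧸ Subgroup.center K) = 50232960 := by
    have h1 := Subgroup.card_eq_card_quotient_mul_card_subgroup (Subgroup.center K)
    rw [hcard, hcenter, hZcard] at h1
    rw [hcenter]
    omega
  refine ⟨by rw [hcenter, hZcard], hcard, hq, ?_⟩
  apply isSimpleGroup_quotient_of
  · intro e
    have : x ∈ Subgroup.center K := by rw [e]; trivial
    exact hxy ((Subgroup.mem_center_iff.1 this y).symm)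
  · intro N hN
    rcases hnormal N hN with h1 | h1
    · left; rw [hcenter]; exact h1
    · right; exact htop N hN h1

theorem main_threeJ3 (h : Hyp4 ω) :
    Nat.card (Subgroup.center (threeJ3 F ω)) = 3 ∧ Nat.card (threeJ3 F ω) = 150698880 ∧
      Nat.card (threeJ3 F ω ⧸ Subgroup.center (threeJ3 F ω)) = 50232960 ∧
      IsSimpleGroup (threeJ3 F ω ⧸ Subgroup.center (threeJ3 F ω)) := by
  rw [threeJ3_eq h.toHyp]
  exact main_KK h

end

end Cfsg.Agent.Lib.Helper56.J3
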