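import Mathlib
import Cfsg.Agent.Lib.Helper56.J3Final
import Cfsg.Agent.Lib.Helper56.J3InvChkC1
import Cfsg.Agent.Lib.Helper56.J3InvChkC2
import Cfsg.Agent.Lib.Helper56.J3TSD3

/-!
The involution centralizer of `J₃` (helper56): the tables hold in every quotient of `3·J₃` by its
centre.
-/

set_option autoImplicit false
set_option linter.unusedSectionVars false

namespace Cfsg.Agent.Lib.Helper56.J3

open Cfsg.Spor

/-! ### The checks in usable form -/

theorem idx32 {i j : ℕ} (hj : j < 32) : (32 * i + j) >>> 5 = i ∧ (32 * i + j) &&& 31 = j := by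
  have e : (31 : ℕ) = 2 ^ 5 - 1 := by norm_num
  rw [Nat.shiftRight_eq_div_pow, e, Nat.and_two_pow_sub_one_eq_mod]
  constructor <;> omega

theorem cQQ : ∀ i < 32, ∀ j < 32, mulCode (Qc i) (Qc j) = Qc (mQ i j) := by
  intro i hi j hj
  have h := allB_spec chkQQ 10 0 cQQ_raw (32 * i + j) (Nat.zero_le _) (by norm_num; omega)
  rw [chkQQ, (idx32 hj).1, (idx32 hj).2] at h
  exact Nat.eq_of_beq_eq_true h

theorem cHH : ∀ a < 60, ∀ b < 60, mulCode (Hc a) (Hc b) = Hc (mH a b) := by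
  intro a ha b hb
  have h := allB_spec chkHH 12 0 cHH_raw (60 * a + b) (Nat.zero_le _) (by norm_num; omega)
  have h1 : (60 * a + b) / 60 = a := by omega
  have h2 : (60 * a + b) % 60 = b := by omega
  rw [chkHH, h1, h2, Bool.or_eq_true] at h
  rcases h with h | h
  · have := Nat.le_of_ble_eq_true h
    omega
  · exact Nat.eq_of_beq_eq_true h

theorem cHQ : ∀ a < 60, ∀ i < 32, mulCode (Hc a) (Qc i) = mulCode (Qc (actT a i)) (Hc a) := by
  intro a ha i hi
  have h := allB_spec chkHQ 11 0 cHQ_raw (32 * a + i) (Nat.zero_le _) (by norm_num; omega)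
  rw [chkHQ, (idx32 hi).1, (idx32 hi).2, Bool.or_eq_true] at h
  rcases h with h | h
  · have := Nat.le_of_ble_eq_true h
    omega
  · exact Nat.eq_of_beq_eq_true h

theorem cCls : ∀ j < NC, chkC j = true := by
  intro j hj
  have h := forall_of_blocks fC 12 7 (by
    intro b hb
    interval_cases b
    · exact cC_0
    · exact cC_1
    · exact cC_2
    · exact cC_3
    · exact cC_4
    · exact cC_5
    · exact cC_6) j (lt_trans hj (by decide))
  rw [fC, Bool.or_eq_true] at h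
  rcases h with h | h
  · exact absurd (Nat.le_of_ble_eq_true h) (not_le.2 hj)
  · exact h

theorem Ctab_inj : ∀ a < NC, ∀ b < NC, Ctab a = Ctab b → a = b := by
  apply inj_of_step
  intro a ha
  have h1 := allB_spec fCm 15 0 cCm_raw a (Nat.zero_le _) (by unfold NC at ha; omega)
  rw [fCm, Bool.or_eq_true] at h1
  rcases h1 with h1 | h1
  · exact absurd (Nat.le_of_ble_eq_true h1) (not_le.2 ha)
  · exact Nat.blt_eq.mp h1

theorem Ctab_lt (a : ℕ) : Ctab a < 2 ^ 162 := by
  unfold Ctab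
  exact lt_of_le_of_lt Nat.and_le_right (by norm_num)

theorem Qc_lt (a : ℕ) : Qc a < 2 ^ 162 := by
  unfold Qc
  exact lt_of_le_of_lt Nat.and_le_right (by norm_num)

theorem Hc_lt (a : ℕ) : Hc a < 2 ^ 162 := by
  unfold Hc
  exact lt_of_le_of_lt Nat.and_le_right (by norm_num)

/-! ### Elements of the group given by codes -/

section
variable {F : Type*} [Field F] [Finite F] {ω : F}

def IsK (h : Hyp ω) (c : ℕ) : Prop := ∃ g ∈ KK h, Rep ω g c

open Classical in
noncomputable def EK (h : Hyp ω) (c : ℕ) : KK h :=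
  if hc : IsK h c then ⟨hc.choose, hc.choose_spec.1⟩ else 1

theorem rep_EK (h : Hyp ω) {c : ℕ} (hc : IsK h c) : Rep ω (EK h c : GL F9 F) c := by
  rw [EK, dif_pos hc]
  exact hc.choose_spec.2

theorem IsK.mul {h : Hyp ω} {a b : ℕ} (ha : IsK h a) (hb : IsK h b) : IsK h (mulCode a b) := by
  obtain ⟨g, hg, rg⟩ := ha
  obtain ⟨k, hk, rk⟩ := hb
  exact ⟨g * k, Subgroup.mul_mem _ hg hk, rg.mul h rk⟩

theorem EK_eq (h : Hyp ω) {c : ℕ} {g : KK h} (hg : Rep ω (g : GL F9 F) c) : EK h c = g :=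
  Subtype.ext ((rep_EK h ⟨g, g.2, hg⟩).ext hg)

theorem EK_mul (h : Hyp ω) {a b c : ℕ} (ha : IsK h a) (hb : IsK h b) (e : mulCode a b = c) :
    EK h a * EK h b = EK h c := by
  subst e
  exact (EK_eq h (g := EK h a * EK h b) ((rep_EK h ha).mul h (rep_EK h hb))).symm

theorem EK_one (h : Hyp ω) : EK h IDc = 1 := EK_eq h (g := 1) Rep.one

theorem EK_inj (h : Hyp ω) {a b : ℕ} (ha : IsK h a) (hb : IsK h b) (la : a < 2 ^ 162)
    (lb : b < 2 ^ 162) (e : EK h a = EK h b) : a = b :=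
  decM_injective h la lb (by rw [← rep_EK h ha, ← rep_EK h hb, e])

theorem isK_Q (h : Hyp ω) {i : ℕ} (hi : i < 32) : IsK h (Qc i) := exists_of_sift h (sift_Q i hi)
theorem isK_H (h : Hyp ω) {a : ℕ} (ha : a < 60) : IsK h (Hc a) := exists_of_sift h (sift_H a ha)

theorem Rep.of_mul_right (h : Hyp ω) {g t : GL F9 F} {c tc : ℕ} (ht : Rep ω t tc)
    (hgt : Rep ω (g * t) (mulCode c tc)) : Rep ω g c := by
  unfold Rep at *
  rw [Units.val_mul, decM_mulCode h, ← ht] at hgt
  exact (Units.isUnit t).mul_left_inj.1 hgt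

/-- the tables hold in `3·J₃` -/
theorem tsd_K (h : Hyp ω) : TSD (fun i => EK h (Qc i)) (fun a => EK h (Hc a)) where
  qq := fun i hi j hj => EK_mul h (isK_Q h hi) (isK_Q h hj) (cQQ i hi j hj)
  hm := fun a ha b hb => EK_mul h (isK_H h ha) (isK_H h hb) (cHH a ha b hb)
  hq := fun a ha i hi => by
    rw [EK_mul h (isK_H h ha) (isK_Q h hi) (cHQ a ha i hi),
      EK_mul h (isK_Q h (actT_lt a ha i hi)) (isK_H h ha) rfl]
  q0 := by
    show EK h (Qc 0) = 1
    rw [inv_misc.1, EK_one]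
  h0 := by
    show EK h (Hc 0) = 1
    rw [inv_misc.2.1, EK_one]
  qh := fun i hi a ha e => QH_inj i hi a ha (EK_inj h (isK_Q h hi) (isK_H h ha) (Qc_lt _) (Hc_lt _) e)
  qinj := fun i hi j hj e => Qc_inj i hi j hj (EK_inj h (isK_Q h hi) (isK_Q h hj) (Qc_lt _) (Qc_lt _) e)
  hinj := fun i hi j hj e => Hc_inj i hi j hj (EK_inj h (isK_H h hi) (isK_H h hj) (Hc_lt _) (Hc_lt _) e)

theorem stepC_spec {t p j : ℕ} (hs : stepC t p j = true) :
    p < NC ∧ Ptab p &&& 31 < Ptab j &&& 31 ∧ mulCode t (Ctab p) = mulCode (Ctab j) t := by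
  rw [stepC, Bool.and_eq_true, Bool.and_eq_true] at hs
  exact ⟨Nat.blt_eq.mp hs.1.1, Nat.blt_eq.mp hs.1.2, Nat.eq_of_beq_eq_true hs.2⟩

/-- the entries of the class table are conjugates of the involution -/
theorem exists_conj (h : Hyp ω) : ∀ j, j < NC →
    IsK h (Ctab j) ∧ ∃ γ : KK h, EK h (Ctab j) = γ * EK h (Qc 1) * γ⁻¹ := by
  refine descent (fun j => j < NC →
    IsK h (Ctab j) ∧ ∃ γ : KK h, EK h (Ctab j) = γ * EK h (Qc 1) * γ⁻¹)
    (fun j => Ptab j &&& 31) ?_
  intro j ih hj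
  have hc := cCls j hj
  rw [chkC, force_eq, Bool.or_eq_true] at hc
  rcases hc with hc | hc
  · have : j = tIdx := Nat.eq_of_beq_eq_true hc
    subst this
    rw [inv_misc.2.2.1]
    exact ⟨isK_Q h (by norm_num), 1, by simp⟩
  · have key : ∀ (τ : KK h) (t : ℕ), Rep ω (τ : GL F9 F) t → stepC t (Ptab j >>> 6) j = true →
        IsK h (Ctab j) ∧ ∃ γ : KK h, EK h (Ctab j) = γ * EK h (Qc 1) * γ⁻¹ := by
      intro τ t hτ hs
      obtain ⟨h1, h2, e⟩ := stepC_spec hs
      obtain ⟨hK, γ, hγ⟩ := ih _ h2 h1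
      have hr : Rep ω ((τ * EK h (Ctab (Ptab j >>> 6)) * τ⁻¹ : KK h) : GL F9 F) (Ctab j) := by
        apply Rep.of_mul_right h hτ
        have e2 : ((τ * EK h (Ctab (Ptab j >>> 6)) * τ⁻¹ : KK h) : GL F9 F) * (τ : GL F9 F)
            = (τ : GL F9 F) * (EK h (Ctab (Ptab j >>> 6)) : GL F9 F) := by
          simp
        rw [e2, ← e]
        exact hτ.mul h (rep_EK h hK)
      refine ⟨⟨_, Subtype.property _, hr⟩, τ * γ, ?_⟩
      rw [EK_eq h hr, hγ]
      group
    cases hb : Nat.ble 32 (Ptab j &&& 63)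
    · rw [hb] at hc
      exact key ⟨tau0 h, tau0_mem h⟩ t0c (rep_tau0 h) hc
    · rw [hb] at hc
      exact key ⟨tau1 h, tau1_mem h⟩ t1c (rep_tau1 h) hc

end

/-! ### Passing to a quotient by the centre -/

theorem TSD.map {K G : Type*} [Group K] [Finite K] [Group G] {q hh : ℕ → K} (T : TSD q hh)
    (π : K →* G) (hker : ∀ z, π z = 1 → (∀ g, z * g = g * z) ∧ z ^ 3 = 1) :
    TSD (fun i => π (q i)) (fun a => π (hh a)) := by
  have inj : ∀ x ∈ T.CS, ∀ y ∈ T.CS, π x = π y → x = y := by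
    intro x hx y hy e
    have hz : π (x⁻¹ * y) = 1 := by rw [map_mul, map_inv, e, inv_mul_cancel]
    obtain ⟨c, c3⟩ := hker _ hz
    have := T.eq_one_of_central (T.CS.mul_mem (T.CS.inv_mem hx) hy) (fun j _ => c _) c3
    exact inv_mul_eq_one.1 this
  exact
  { qq := fun i hi j hj => by rw [← map_mul, T.qq i hi j hj]
    hm := fun a ha b hb => by rw [← map_mul, T.hm a ha b hb]
    hq := fun a ha i hi => by rw [← map_mul, T.hq a ha i hi, map_mul]
    q0 := by rw [T.q0, map_one]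
    h0 := by rw [T.h0, map_one]
    qh := fun i hi a ha e =>
      T.qh i hi a ha (inj _ (T.QS_le_CS (T.q_mem hi)) _ (T.HS_le_CS (T.h_mem ha)) e)
    qinj := fun i hi j hj e =>
      T.qinj i hi j hj (inj _ (T.QS_le_CS (T.q_mem hi)) _ (T.QS_le_CS (T.q_mem hj)) e)
    hinj := fun i hi j hj e =>
      T.hinj i hi j hj (inj _ (T.HS_le_CS (T.h_mem hi)) _ (T.HS_le_CS (T.h_mem hj)) e) }

theorem eq_of_involutions {K G : Type*} [Group K] [Group G] (π : K →* G)
    (hker : ∀ z, π z = 1 → (∀ g, z * g = g * z) ∧ z ^ 3 = 1) {x y : K} (hx : x * x = 1)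
    (hy : y * y = 1) (e : π x = π y) : x = y := by
  have hz : π (x⁻¹ * y) = 1 := by rw [map_mul, map_inv, e, inv_mul_cancel]
  obtain ⟨c, c3⟩ := hker _ hz
  set z := x⁻¹ * y with hzdef
  have hyz : y = x * z := by rw [hzdef]; group
  have h2 : z * z = 1 := by
    have : y * y = (x * x) * (z * z) := by
      rw [hyz]
      calc x * z * (x * z) = x * (z * x) * z := by group
        _ = x * (x * z) * z := by rw [c x]
        _ = _ := by group
    rw [hy, hx, one_mul] at this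
    exact this.symm
  have h1 : z = 1 := by
    have : z ^ 3 = z * z * z := by rw [pow_succ, pow_two]
    rw [this, h2, one_mul] at c3
    exact c3
  rw [hyz, h1, mul_one]

section
variable {F : Type*} [Field F] [Finite F] {ω : F}

theorem ker_spec (h : Hyp4 ω) {G : Type*} [Group G] (π : KK h.toHyp →* G)
    (hk : π.ker = Subgroup.center (KK h.toHyp)) :
    ∀ z, π z = 1 → (∀ g, z * g = g * z) ∧ z ^ 3 = 1 := by
  intro z hz
  have hzc : z ∈ Subgroup.center (KK h.toHyp) := by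
    rw [← hk]
    exact hz
  refine ⟨fun g => ((Subgroup.mem_center_iff.1 hzc) g).symm, ?_⟩
  have h3 : (⟨z, hzc⟩ : Subgroup.center (KK h.toHyp)) ^ Nat.card (Subgroup.center (KK h.toHyp)) = 1 :=
    pow_card_eq_one'
  rw [(main_KK h).1] at h3
  exact congrArg Subtype.val h3

/-- the tables and the global hypotheses hold in every quotient of `3·J₃` by its centre -/
theorem tsdj (h : Hyp4 ω) {G : Type*} [Group G] (π : KK h.toHyp →* G)
    (hs : Function.Surjective π) (hk : π.ker = Subgroup.center (KK h.toHyp)) :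
    TSDJ (fun i => π (EK h.toHyp (Qc i))) (fun a => π (EK h.toHyp (Hc a))) := by
  have hh := h.toHyp
  have hker := ker_spec h π hk
  have T := tsd_K hh
  have hq1 : EK hh (Qc 1) * EK hh (Qc 1) = 1 := T.q1_sq
  refine { toTSD := T.map π hker, card := ?_, cls := ?_, conj := ?_ }
  · have e := Nat.card_congr (QuotientGroup.quotientKerEquivOfSurjective π hs).toEquiv
    rw [hk, (main_KK h).2.2.1] at e
    exact e.symm
  · have hNC : NC = 26163 := rfl
    refine ⟨fun j => π ((exists_conj hh j (by rw [hNC]; exact j.2)).2.choose), ?_⟩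
    intro j k e
    have hj : (j : ℕ) < NC := by rw [hNC]; exact j.2
    have hk' : (k : ℕ) < NC := by rw [hNC]; exact k.2
    have ej := (exists_conj hh j hj).2.choose_spec
    have ek := (exists_conj hh k hk').2.choose_spec
    have e' : π (EK hh (Ctab j)) = π (EK hh (Ctab k)) := by
      rw [ej, ek, map_mul, map_mul, map_inv, map_mul, map_mul, map_inv]
      exact e
    have sq : ∀ γ : KK hh, (γ * EK hh (Qc 1) * γ⁻¹) * (γ * EK hh (Qc 1) * γ⁻¹) = 1 := by
      intro γ
      calc (γ * EK hh (Qc 1) * γ⁻¹) * (γ * EK hh (Qc 1) * γ⁻¹)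
          = γ * (EK hh (Qc 1) * EK hh (Qc 1)) * γ⁻¹ := by group
        _ = 1 := by rw [hq1]; group
    have e2 := eq_of_involutions π hker (by rw [ej]; exact sq _) (by rw [ek]; exact sq _) e'
    exact Fin.ext (Ctab_inj j hj k hk' (EK_inj hh (exists_conj hh j hj).1 (exists_conj hh k hk').1
      (Ctab_lt _) (Ctab_lt _) e2))
  · intro i hi a ha e1 e2
    obtain ⟨h1, h2⟩ := jT_chk i hi a ha e1 e2
    obtain ⟨-, γ, hγ⟩ := exists_conj hh _ h1
    refine ⟨π γ, ?_⟩
    have e3 := EK_mul hh (isK_Q hh hi) (isK_H hh (show a < 60 by omega)) h2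
    show π γ * π (EK hh (Qc 1)) * (π γ)⁻¹ = π (EK hh (Qc i)) * π (EK hh (Hc a))
    rw [← map_mul (f := π) (EK hh (Qc i)), e3, hγ, map_mul, map_mul, map_inv]

end

end Cfsg.Agent.Lib.Helper56.J3
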