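import Mathlib

set_option autoImplicit false

namespace Cfsg.Agent.Lib.Helper56.J3

def Vtab_c0 : ℕ := 0x1100c10001110001280110c030480c428081000f15fd317fe7a091282bfaf56d9d063241a5b5622bf5f5188d47e9e79588817dae04c9d6fd9ec9c493955918d28d5f07edc67c07351a65fda56879b3982e49acfdba31da12ede83f99fb3c6c1d44a0b5a328c4592c063b45b91559bfd5e52d292db2fdff0a25844c3f49cdcd25691c64b8ab04c7a975b97edab6ed76e6e67e6767ab74cfa4243ab147c5537853be021ac19cc52386f384fa878dd1a9c92d8ff38952de43c4a27b41a6f98f6266b488601ecfd3714a51ff515d9f5fc898f3ea8c0da9dfc08ede18588b5afa9d7a7f65548d0a9742fe5f192797a8ee2ad9f6473f4a8a5df14f825ee0f3039ead69a753d44af51b34025f931d8d55c51944f9801ec47fc422999b612af5b8a3d451e4166c04405409d4167345b14fdeb1686ef9f2a30b7983e65bbf3b21615edd650e77821601a841f1ed9c89e8d370837dd1f082807e608960c04044440c440044480004000c484004480c4440414400414001044504004500041400054040500001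
def Vtab_sel (k : ℕ) : ℕ := Vtab_c0
def Vtab (i : ℕ) : ℕ := ((Vtab_sel (i >>> 5)) >>> (162 * (i &&& 31))) &&& 5846006549323611672814739330865132078623730171903
def Ntab_c0 : ℕ := 0x1000010000100001000010000100001000010000110ced0cc0ac5479a124876fec532d94bd194db905cb25b32d92b7306642960b65755f560fbd10dcd0726b0aef8bccd6aba9c9727eef70893e494bb64293e8fbb218eff1e363de9f5e3a53ac80b7dbc15ab74d6283ea0d5b7bd5a89d60dc96e91c5434478900d1b5c034132f7df851e2f21a0166135986294727264f606554aff008c14fc5ba20c9988d145d48d78798a4f2e427e72324a1d37249761554c0c121eb11e6293cb909f9c8c92874dc925d85553030487ac4993d819552bfc023053f16e8832662345175235e346d700d04cbdf7e1478bc86805984d6618a51c9dd358a0fa8356def56a27583725ba47150d11e2404fa3eec863bfc78d8f7a7d78e94eb202df6f056adc9ac2bbe2f335aaea725c9fbbdc224f9252ed90a72c96ccb64adcc1990a582d95d57d583ef4437340433b43302b151e684921dbfb14cb652f46536e41400004000040000400004000040000400004000050000100001000010000100001000010000100001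
def Ntab_sel (k : ℕ) : ℕ := Ntab_c0
def Ntab (i : ℕ) : ℕ := ((Ntab_sel (i >>> 5)) >>> (162 * (i &&& 31))) &&& 5846006549323611672814739330865132078623730171903
def sN_c0 : ℕ := 0x10748f0c1701f4c7948ecc60605b47bca5c887053382fc40b4d8a4c3cb3a4c3cb3a40b4d8a53382fca5c887005b47bc8ecc6061f4c7948f0c17000010740001074
def sN_sel (k : ℕ) : ℕ := sN_c0
def sN (i : ℕ) : ℕ := ((sN_sel (i >>> 5)) >>> (28 * (i &&& 31))) &&& 268435455
def eN (m : ℕ) : ℕ := [0, 1, 18, 18, 1, 1, 1, 1, 18, 1, 18, 1, 18, 18, 18, 18, 1, 1, 18].getD m 0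
def vC : ℕ := 1849718693824932450194110081778504312150522068993
def Mc : ℕ := 5800713449732374709617997879797394262937147805730
def Mic : ℕ := 3905321212352552339535571782298893050083884929075
def th1c : ℕ := 18927218766995859728535780338531212240949203513
def sTh1 : ℕ := 164817272

end Cfsg.Agent.Lib.Helper56.J3
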