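import Mathlib
import Cfsg.Agent.Lib.Helper56.J3ChkX
import Cfsg.Agent.Lib.Helper56.J3InvDef
import Cfsg.Agent.Lib.Helper56.J3OutData

/-! Check functions for the automorphism group of `J₃` (helper56). -/

set_option autoImplicit false

namespace Cfsg.Agent.Lib.Helper56.J3

def trunc (c : ℕ) : ℕ := c &&& (2 ^ 162 - 1)

/-- the entrywise Frobenius map -/
def frobC (c : ℕ) : ℕ := c ^^^ ((c &&& M10) >>> 1)

def mulF (a b : ℕ) : ℕ := forceN a fun a' => forceN b fun b' => mulCode a' b'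

theorem mulF_eq (a b : ℕ) : mulF a b = mulCode a b := by
  rw [mulF, forceN_eq, forceN_eq]

def word3 (a b c u : ℕ) : ℕ :=
  mulF (mulF (mulF (mulF (mulF (xpow a) u) (xpow b)) u) (xpow c)) u

def p4 (w : ℕ) : ℕ := forceN (mulF w w) fun w2 => mulF w2 w2

def p5 (w : ℕ) : ℕ := forceN (mulF w w) fun w2 => forceN (mulF w2 w2) fun w4 => mulF w4 w

def inV (c : ℕ) : Bool := (List.range 19).any fun i => Nat.beq c (Vtab i)

def restO (c : ℕ) : Bool :=
  Nat.ble 4 (col (p4 (word3 9 13 14 c)) 0) || Nat.ble 4 (col (p5 (word3 3 6 13 c)) 0) || inV c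

def chkO (j : ℕ) : Bool :=
  force (Ctab j) fun c => force (mulCode t0c c) fun w => force (mulCode w w) fun w2 =>
    !(Nat.beq (trunc w2) IDc) &&
      force (mulCode w2 w2) fun w4 => Nat.ble 4 (col w4 0) || restO c

def fO (j : ℕ) : Bool := Nat.ble NC j || chkO j

end Cfsg.Agent.Lib.Helper56.J3
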