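import Mathlib
import Cfsg.Agent.Lib.Helper56.J3OutDef

set_option autoImplicit false

namespace Cfsg.Agent.Lib.Helper56.J3

theorem vC_eq : vC = cC (0, 1) := by decide +kernel

theorem Vtab_chk : ∀ i < 19, mulCode (mulCode (xpow i) vC) (xpow ((19 - i) % 19)) = Vtab i := by
  decide +kernel

theorem relV : p4 (mulCode t0c vC) = IDc ∧ p4 (word3 9 13 14 vC) = IDc ∧
    p5 (word3 3 6 13 vC) = IDc := by decide +kernel

theorem N_chk : ∀ m < 19, m ≠ 0 → siftOK (sN m) (Ntab m) = true ∧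
    mulCode (Ntab m) (xpow m) = mulCode (xpow (eN m)) (Ntab m) ∧ (eN m = 1 ∨ eN m = 18) := by
  decide +kernel

theorem M_chk : mulCode Mc Mic = IDc ∧ mulCode Mic Mc = IDc ∧
    mulCode (mulCode Mc (frobC t0c)) Mic = xpow 18 ∧
    mulCode (mulCode Mc (frobC t1c)) Mic = th1c ∧ siftOK sTh1 th1c = true := by decide +kernel

end Cfsg.Agent.Lib.Helper56.J3
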