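import Mathlib
import Cfsg.Agent.Lib.Helper56.J3OutDef

set_option autoImplicit false

namespace Cfsg.Agent.Lib.Helper56.J3

theorem cO_0 : allB fO 12 (2 ^ 12 * 0) = true := by decide +kernel
theorem cO_1 : allB fO 12 (2 ^ 12 * 1) = true := by decide +kernel
theorem cO_2 : allB fO 12 (2 ^ 12 * 2) = true := by decide +kernel
theorem cO_3 : allB fO 12 (2 ^ 12 * 3) = true := by decide +kernel

end Cfsg.Agent.Lib.Helper56.J3
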