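import Mathlib
import Cfsg.Agent.Lib.Helper56.J3OutDef

set_option autoImplicit false

namespace Cfsg.Agent.Lib.Helper56.J3

theorem cO_4 : allB fO 12 (2 ^ 12 * 4) = true := by decide +kernel
theorem cO_5 : allB fO 12 (2 ^ 12 * 5) = true := by decide +kernel
theorem cO_6 : allB fO 12 (2 ^ 12 * 6) = true := by decide +kernel

end Cfsg.Agent.Lib.Helper56.J3
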