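import Mathlib
import Cfsg.Agent.Lib.Helper56.J3InvMain
import Cfsg.Agent.Lib.Helper56.J3OutDef

/-!
Code level lemmas for the automorphisms of `J₃` (helper56): truncation, the Frobenius map, central
elements.
-/

set_option autoImplicit false
set_option linter.unusedSectionVars false

namespace Cfsg.Agent.Lib.Helper56.J3

open Cfsg.Spor

section
variable {F : Type*} [Field F] {ω : F}

theorem trunc_lt (c : ℕ) : trunc c < 2 ^ 162 := by
  unfold trunc
  exact lt_of_le_of_lt Nat.and_le_right (by norm_num)

theorem testBit_trunc (c p : ℕ) (hp : p < 162) : (trunc c).testBit p = c.testBit p := by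
  rw [trunc, Nat.testBit_and, Nat.testBit_two_pow_sub_one]
  simp [hp]

theorem decM_trunc (ω : F) (c : ℕ) : decM ω (trunc c) = decM ω c := by
  ext w z
  have h1 := idx_lt z
  have h2 := idx_lt w
  simp only [decM, Matrix.of_apply, ent]
  rw [testBit_trunc _ _ (by omega), testBit_trunc _ _ (by omega)]

theorem IDc_lt : IDc < 2 ^ 162 := by decide +kernel

theorem trunc_eq_of_decM (h : Hyp ω) {c : ℕ} (e : decM ω c = 1) : trunc c = IDc := by
  apply decM_injective h (trunc_lt c) IDc_lt
  rw [decM_trunc, e, decM_IDc]

theorem M10_162 : M10.testBit 162 = false := by decide +kernel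

theorem M10_even (k : ℕ) (hk : k ≤ 81) : M10.testBit (2 * k) = false := by
  rcases Nat.lt_or_ge k 81 with h | h
  · exact (mask_facts k h).2.2.1
  · have : k = 81 := by omega
    subst this
    exact M10_162

theorem testBit_frobC_even (X k : ℕ) (hk : k < 81) :
    (frobC X).testBit (2 * k) = (X.testBit (2 * k) ^^ X.testBit (2 * k + 1)) := by
  rw [frobC, Nat.testBit_xor, Nat.testBit_shiftRight, Nat.testBit_and, Nat.add_comm 1,
    (mask_facts k hk).2.2.2, Bool.and_true]

theorem testBit_frobC_odd (X k : ℕ) (hk : k < 81) :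
    (frobC X).testBit (2 * k + 1) = X.testBit (2 * k + 1) := by
  have e : 1 + (2 * k + 1) = 2 * (k + 1) := by ring
  rw [frobC, Nat.testBit_xor, Nat.testBit_shiftRight, Nat.testBit_and, e,
    M10_even (k + 1) (by omega), Bool.and_false, Bool.xor_false]

theorem ent_frobC (h : Hyp ω) (X k : ℕ) (hk : k < 81) :
    ent ω (frobC X) (2 * k) = ent ω X (2 * k) * ent ω X (2 * k) := by
  simp only [ent, testBit_frobC_even X k hk, testBit_frobC_odd X k hk]
  have h2 := h.two
  have ho := h.om
  cases X.testBit (2 * k) <;> cases X.testBit (2 * k + 1) <;> simp [bF]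
  · rw [ho, add_comm]
  · linear_combination (-1 : F) * ho - ω * h2 - h2

/-- the Frobenius endomorphism -/
def sqHom (h : Hyp ω) : F →+* F where
  toFun a := a * a
  map_one' := by simp
  map_mul' a b := by ring
  map_zero' := by simp
  map_add' a b := by
    have := h.two
    linear_combination (a * b) * this

theorem decM_frobC (h : Hyp ω) (c : ℕ) : decM ω (frobC c) = (decM ω c).map (sqHom h) := by
  ext w z
  have h1 := idx_lt z
  have h2 := idx_lt w
  have e : 18 * idx z + 2 * idx w = 2 * (9 * idx z + idx w) := by ring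
  simp only [decM, Matrix.of_apply, Matrix.map_apply]
  rw [e, ent_frobC h _ _ (by omega)]
  rfl

theorem col_of_scalar (h : Hyp4 ω) {c : ℕ} {lam : F} (hl : lam ≠ 0) (e : decM ω c = lam • 1) :
    col c 0 < 4 := by
  have hh := h.toHyp
  have key : ∀ n, n < 4 → lam = dec4 ω n → col c 0 < 4 := by
    intro n hn e2
    have e3 : decV ω (col c 0) = decV ω n := by
      rw [decV_col, ← decM_mulVec_single, e, decV_small ω hn, ← e2, Matrix.smul_mulVec,
        Matrix.one_mulVec]
    rw [decV_injective hh (col_lt _ _) (lt_trans hn (by norm_num)) e3]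
    exact hn
  rcases h.all lam with e0 | e0 | e0 | e0
  · exact absurd e0 hl
  · exact key 1 (by norm_num) (e0.trans (dec4_one ω).symm)
  · exact key 2 (by norm_num) (e0.trans (dec4_two ω).symm)
  · exact key 3 (by norm_num) (e0.trans (dec4_three ω).symm)

end

end Cfsg.Agent.Lib.Helper56.J3
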