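import Mathlib
import Cfsg.Agent.Lib.Helper56.J3OutCode
import Cfsg.Agent.Lib.Helper56.J3OutChk
import Cfsg.Agent.Lib.Helper56.J3OutChkA
import Cfsg.Agent.Lib.Helper56.J3OutChkB

/-!
Automorphisms of `J₃` (helper56), part 1: facts in `3·J₃`.
-/

set_option autoImplicit false
set_option linter.unusedSectionVars false

namespace Cfsg.Agent.Lib.Helper56.J3

open Cfsg.Spor

theorem cOut : ∀ j < NC, chkO j = true := by
  intro j hj
  have h := forall_of_blocks fO 12 7 (by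
    intro b hb
    interval_cases b
    · exact cO_0
    · exact cO_1
    · exact cO_2
    · exact cO_3
    · exact cO_4
    · exact cO_5
    · exact cO_6) j (lt_trans hj (by decide))
  rw [fO, Bool.or_eq_true] at h
  rcases h with h | h
  · exact absurd (Nat.le_of_ble_eq_true h) (not_le.2 hj)
  · exact h

theorem p4_eq (w : ℕ) : p4 w = mulCode (mulCode w w) (mulCode w w) := by
  simp only [p4, forceN_eq, mulF_eq]

theorem p5_eq (w : ℕ) : p5 w = mulCode (mulCode (mulCode w w) (mulCode w w)) w := by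
  simp only [p5, forceN_eq, mulF_eq]

theorem word3_eq (a b c u : ℕ) : word3 a b c u =
    mulCode (mulCode (mulCode (mulCode (mulCode (xpow a) u) (xpow b)) u) (xpow c)) u := by
  simp only [word3, mulF_eq]

theorem chkO_spec {j : ℕ} (hj : j < NC) :
    trunc (mulCode (mulCode t0c (Ctab j)) (mulCode t0c (Ctab j))) ≠ IDc ∧
    (4 ≤ col (p4 (mulCode t0c (Ctab j))) 0 ∨ 4 ≤ col (p4 (word3 9 13 14 (Ctab j))) 0 ∨
      4 ≤ col (p5 (word3 3 6 13 (Ctab j))) 0 ∨ ∃ i < 19, Ctab j = Vtab i) := by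
  have h := cOut j hj
  simp only [chkO, force_eq, Bool.and_eq_true, Bool.or_eq_true, restO] at h
  obtain ⟨h1, h2⟩ := h
  constructor
  · intro e
    rw [e] at h1
    simp at h1
  · rcases h2 with h2 | (h2 | h2) | h2
    · left
      rw [p4_eq]
      exact Nat.le_of_ble_eq_true h2
    · right; left
      exact Nat.le_of_ble_eq_true h2
    · right; right; left
      exact Nat.le_of_ble_eq_true h2
    · right; right; right
      rw [inV, List.any_eq_true] at h2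
      obtain ⟨i, hi, e⟩ := h2
      exact ⟨i, List.mem_range.1 hi, Nat.eq_of_beq_eq_true e⟩

/-- the family of all involutions -/
theorem TSDJ.mem_family {G : Type*} [Group G] [Finite G] {q hh : ℕ → G} (J : TSDJ q hh)
    (c : Fin 26163 → G) (hc : Function.Injective c) (hconj : ∀ j, ∃ g, g * q 1 * g⁻¹ = c j) {u : G}
    (hu : orderOf u = 2) : ∃ j, u = c j := by
  by_contra hne
  push Not at hne
  obtain ⟨k, hk⟩ := J.conj_q1 hu
  choose g hg using hconj
  let g' : Fin (26163 + 1) → G := Fin.cons k g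
  have hval : (fun j => g' j * q 1 * (g' j)⁻¹) = (Fin.cons u c : Fin (26163 + 1) → G) := by
    funext j
    refine Fin.cases ?_ (fun i => ?_) j
    · simp [g', hk]
    · simp [g', hg]
  have hinj : Function.Injective (fun j => g' j * q 1 * (g' j)⁻¹) := by
    rw [hval, Fin.cons_injective_iff]
    refine ⟨?_, hc⟩
    rintro ⟨j, hj⟩
    exact hne j hj.symm
  have h1 := card_centralizer_le (q 1) (26163 + 1) g' hinj
  rw [J.card, J.centralizer_eq, J.toTSD.card_CS] at h1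
  omega

theorem exists_conj_mem_of_index {G : Type*} [Group G] [Finite G] {p : ℕ} [Fact p.Prime]
    (S : Subgroup G) (hS : IsPGroup p S) (hi : ¬ p ∣ S.index) {x : G}
    (hP : IsPGroup p (Subgroup.zpowers x)) : ∃ g : G, g * x * g⁻¹ ∈ S := by
  obtain ⟨R, hR⟩ := hP.exists_le_sylow
  obtain ⟨n, hn⟩ := MulAction.exists_smul_eq G R (hS.toSylow hi)
  refine ⟨n, ?_⟩
  have h1 : x ∈ (R : Subgroup G) := hR (Subgroup.mem_zpowers _)
  have h2 : n * x * n⁻¹ ∈ ((hS.toSylow hi : Sylow p G) : Subgroup G) := by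
    rw [← hn, Sylow.coe_subgroup_smul, Subgroup.mem_pointwise_smul_iff_inv_smul_mem]
    have : (MulAut.conj n)⁻¹ • (n * x * n⁻¹) = x := by
      rw [← map_inv, MulAut.smul_def, MulAut.conj_apply]
      group
    rw [this]
    exact h1
  exact h2

section
variable {F : Type*} [Field F] [Finite F] {ω : F}

/-- central elements are scalar -/
theorem center_scalar (h : Hyp4 ω) {z : KK h.toHyp} (hz : z ∈ Subgroup.center (KK h.toHyp)) :
    ∃ lam : F, lam ≠ 0 ∧ ((z : GL F9 F) : Matrix F9 F9 F) = lam • 1 := by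
  have hh := h.toHyp
  let z0 : KK h.toHyp := ⟨zeta hh, zeta_mem hh⟩
  have hz3 : z0 ^ 3 = 1 := by
    apply Subtype.ext
    apply Units.ext
    show ((zeta hh ^ 3 : GL F9 F) : Matrix F9 F9 F) = 1
    rw [Units.val_pow_eq_pow_val, zeta_val, smul_pow, one_pow, om_cube hh, one_smul]
  have hz1 : z0 ≠ 1 := by
    intro e
    have e1 : (zeta hh : Matrix F9 F9 F) = 1 := by
      have := congrArg (fun k : KK h.toHyp => ((k : GL F9 F) : Matrix F9 F9 F)) e
      exact this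
    rw [zeta_val] at e1
    have := congrFun (congrFun e1 0) 0
    simp at this
    exact hh.om_ne_one this
  have hp3 : Fact (Nat.Prime 3) := ⟨by norm_num⟩
  have ho : orderOf z0 = 3 := orderOf_eq_prime hz3 hz1
  have hz0c : z0 ∈ Subgroup.center (KK h.toHyp) := by
    rw [Subgroup.mem_center_iff]
    intro g
    apply Subtype.ext
    apply Units.ext
    show ((g : GL F9 F) : Matrix F9 F9 F) * (zeta hh : Matrix F9 F9 F)
      = (zeta hh : Matrix F9 F9 F) * ((g : GL F9 F) : Matrix F9 F9 F)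
    rw [zeta_val]
    simp
  have heq : Subgroup.zpowers z0 = Subgroup.center (KK h.toHyp) := by
    apply Subgroup.eq_of_le_of_card_ge (Subgroup.zpowers_le.2 hz0c)
    rw [(main_KK h).1, Nat.card_zpowers, ho]
  rw [← heq] at hz
  obtain ⟨n, rfl⟩ := mem_powers_iff_mem_zpowers.2 hz
  refine ⟨ω ^ n, pow_ne_zero _ hh.om_ne_zero, ?_⟩
  show ((zeta hh ^ n : GL F9 F) : Matrix F9 F9 F) = _
  rw [Units.val_pow_eq_pow_val, zeta_val, smul_pow, one_pow]

theorem scalar_mem_center (h : Hyp ω) {z : KK h} {lam : F}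
    (e : ((z : GL F9 F) : Matrix F9 F9 F) = lam • 1) : z ∈ Subgroup.center (KK h) := by
  rw [Subgroup.mem_center_iff]
  intro g
  apply Subtype.ext
  apply Units.ext
  show ((g : GL F9 F) : Matrix F9 F9 F) * ((z : GL F9 F) : Matrix F9 F9 F)
    = ((z : GL F9 F) : Matrix F9 F9 F) * ((g : GL F9 F) : Matrix F9 F9 F)
  rw [e]
  simp

theorem col_lt_of_center (h : Hyp4 ω) {c : ℕ} (hc : IsK h.toHyp c)
    (hz : EK h.toHyp c ∈ Subgroup.center (KK h.toHyp)) : col c 0 < 4 := by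
  obtain ⟨lam, hl, e⟩ := center_scalar h hz
  exact col_of_scalar h hl (by rw [← rep_EK h.toHyp hc]; exact e)

theorem trunc_of_one (h : Hyp ω) {c : ℕ} (hc : IsK h c) (h1 : EK h c = 1) : trunc c = IDc :=
  trunc_eq_of_decM h (by rw [← rep_EK h hc, h1]; rfl)

def XK (h : Hyp ω) : KK h := ⟨tau0 h, tau0_mem h⟩
def VK (h : Hyp ω) : KK h := ⟨gC01 h, gC01_mem h⟩

theorem isK_t0 (h : Hyp ω) : IsK h t0c := ⟨tau0 h, tau0_mem h, rep_tau0 h⟩
theorem rep_gC01 (h : Hyp ω) : Rep ω (gC01 h) vC :=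
  (rep_mkGL h (cC (0, 1)) (cC (0, 1)) words_chk.2.2.2.2.2.2.2 words_chk.2.2.2.2.2.2.2).of_eq
    vC_eq.symm
theorem isK_v (h : Hyp ω) : IsK h vC := ⟨gC01 h, gC01_mem h, rep_gC01 h⟩
theorem isK_xpow (h : Hyp ω) {k : ℕ} (hk : k < 19) : IsK h (xpow k) :=
  ⟨tau0 h ^ k, Subgroup.pow_mem _ (tau0_mem h) k, rep_pow h k hk⟩

theorem EK_t0 (h : Hyp ω) : EK h t0c = XK h := EK_eq h (g := XK h) (rep_tau0 h)
theorem EK_v (h : Hyp ω) : EK h vC = VK h := EK_eq h (g := VK h) (rep_gC01 h)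
theorem EK_xpow (h : Hyp ω) {k : ℕ} (hk : k < 19) : EK h (xpow k) = XK h ^ k :=
  EK_eq h (g := XK h ^ k) (rep_pow h k hk)

theorem XK_pow (h : Hyp ω) : XK h ^ 19 = 1 := Subtype.ext (tau0_pow h)
theorem VK_sq (h : Hyp ω) : VK h * VK h = 1 := Subtype.ext (gC01_mul_self h)

theorem EK_p4 (h : Hyp ω) {w : ℕ} (hw : IsK h w) : IsK h (p4 w) ∧ EK h w ^ 4 = EK h (p4 w) := by
  rw [p4_eq]
  refine ⟨(hw.mul hw).mul (hw.mul hw), ?_⟩
  rw [← EK_mul h (hw.mul hw) (hw.mul hw) rfl, ← EK_mul h hw hw rfl]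
  simp only [pow_succ, pow_zero, one_mul, mul_assoc]

theorem EK_p5 (h : Hyp ω) {w : ℕ} (hw : IsK h w) : IsK h (p5 w) ∧ EK h w ^ 5 = EK h (p5 w) := by
  rw [p5_eq]
  refine ⟨((hw.mul hw).mul (hw.mul hw)).mul hw, ?_⟩
  rw [← EK_mul h ((hw.mul hw).mul (hw.mul hw)) hw rfl, ← EK_mul h (hw.mul hw) (hw.mul hw) rfl,
    ← EK_mul h hw hw rfl]
  simp only [pow_succ, pow_zero, one_mul, mul_assoc]

theorem EK_word3 (h : Hyp ω) {a b c u : ℕ} (ha : a < 19) (hb : b < 19) (hc : c < 19)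
    (hu : IsK h u) : IsK h (word3 a b c u) ∧
    XK h ^ a * EK h u * XK h ^ b * EK h u * XK h ^ c * EK h u = EK h (word3 a b c u) := by
  rw [word3_eq]
  have h1 := (isK_xpow h ha).mul hu
  have h2 := h1.mul (isK_xpow h hb)
  have h3 := h2.mul hu
  have h4 := h3.mul (isK_xpow h hc)
  refine ⟨h4.mul hu, ?_⟩
  rw [← EK_mul h h4 hu rfl, ← EK_mul h h3 (isK_xpow h hc) rfl, ← EK_mul h h2 hu rfl,
    ← EK_mul h h1 (isK_xpow h hb) rfl, ← EK_mul h (isK_xpow h ha) hu rfl, EK_xpow h ha,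
    EK_xpow h hb, EK_xpow h hc]

/-- the relations of the pair `(x, v)` -/
theorem rel_K (h : Hyp ω) : (XK h * VK h) ^ 4 = 1 ∧
    (XK h ^ 9 * VK h * XK h ^ 13 * VK h * XK h ^ 14 * VK h) ^ 4 = 1 ∧
    (XK h ^ 3 * VK h * XK h ^ 6 * VK h * XK h ^ 13 * VK h) ^ 5 = 1 := by
  refine ⟨?_, ?_, ?_⟩
  · rw [← EK_t0, ← EK_v, EK_mul h (isK_t0 h) (isK_v h) rfl,
      (EK_p4 h ((isK_t0 h).mul (isK_v h))).2, relV.1, EK_one]
  · have h1 := EK_word3 h (a := 9) (b := 13) (c := 14) (by norm_num) (by norm_num) (by norm_num)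
      (isK_v h)
    rw [← EK_v, h1.2, (EK_p4 h h1.1).2, relV.2.1, EK_one]
  · have h1 := EK_word3 h (a := 3) (b := 6) (c := 13) (by norm_num) (by norm_num) (by norm_num)
      (isK_v h)
    rw [← EK_v, h1.2, (EK_p5 h h1.1).2, relV.2.2, EK_one]

theorem EK_Vtab (h : Hyp ω) {i : ℕ} (hi : i < 19) :
    EK h (Vtab i) = XK h ^ i * VK h * (XK h ^ i)⁻¹ := by
  have hi2 : (19 - i) % 19 < 19 := Nat.mod_lt _ (by norm_num)
  rw [← Vtab_chk i hi, ← EK_mul h ((isK_xpow h hi).mul (isK_v h)) (isK_xpow h hi2) rfl,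
    ← EK_mul h (isK_xpow h hi) (isK_v h) rfl, EK_xpow h hi, EK_xpow h hi2, EK_v]
  congr 1
  apply eq_inv_of_mul_eq_one_right
  rw [← pow_add]
  rcases Nat.eq_zero_or_pos i with rfl | h0
  · simp
  · have : i + (19 - i) % 19 = 19 := by
      rw [Nat.mod_eq_of_lt (by omega)]
      omega
    rw [this, XK_pow]

end

end Cfsg.Agent.Lib.Helper56.J3
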