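import Mathlib
import Cfsg.Agent.Lib.Helper56.J3Out1

/-!
Automorphisms of `J₃` (helper56), part 2: an automorphism fixing the element of order 19 is inner.
-/

set_option autoImplicit false
set_option linter.unusedSectionVars false

namespace Cfsg.Agent.Lib.Helper56.J3

open Cfsg.Spor

theorem eq_one_of_pow {K : Type*} [Group K] {z : K} (h3 : z ^ 3 = 1) (h19 : z ^ 19 = 1) : z = 1 := by
  have : z ^ 19 = (z ^ 3) ^ 6 * z := by rw [← pow_mul, ← pow_succ]
  rw [this, h3, one_pow, one_mul] at h19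
  exact h19

theorem eq_of_pow19 {K G : Type*} [Group K] [Group G] (π : K →* G)
    (hker : ∀ z, π z = 1 → (∀ g, z * g = g * z) ∧ z ^ 3 = 1) {x y : K} (hx : x ^ 19 = 1)
    (hy : y ^ 19 = 1) (e : π x = π y) : x = y := by
  have hz : π (x⁻¹ * y) = 1 := by rw [map_mul, map_inv, e, inv_mul_cancel]
  obtain ⟨c, c3⟩ := hker _ hz
  set z := x⁻¹ * y with hzdef
  have hyz : y = x * z := by rw [hzdef]; group
  have hc : Commute x z := (c x).symm
  rw [hyz, hc.mul_pow, hx, one_mul] at hy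
  rw [hyz, eq_one_of_pow c3 hy, mul_one]

section
variable {F : Type*} [Field F] [Finite F] {ω : F} (h : Hyp4 ω) {G : Type*} [Group G]
  (π : KK h.toHyp →* G) (hs : Function.Surjective π) (hk : π.ker = Subgroup.center (KK h.toHyp))

include hk

theorem map_one_of_mem_center {z : KK h.toHyp} (hz : z ∈ Subgroup.center (KK h.toHyp)) :
    π z = 1 := by
  rw [← hk] at hz
  exact hz

theorem mem_center_of_map_one {z : KK h.toHyp} (hz : π z = 1) :
    z ∈ Subgroup.center (KK h.toHyp) := by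
  rw [← hk]
  exact hz

theorem xbar_ne_one : π (XK h.toHyp) ≠ 1 := by
  intro e
  have hc := mem_center_of_map_one h π hk e
  have := (Subgroup.mem_center_iff.1 hc) ⟨tau1 h.toHyp, tau1_mem h.toHyp⟩
  exact tau_not_comm h.toHyp (congrArg Subtype.val this).symm

theorem xbar_pow : π (XK h.toHyp) ^ 19 = 1 := by
  rw [← map_pow, XK_pow, map_one]

theorem orderOf_xbar : orderOf (π (XK h.toHyp)) = 19 := by
  have : Fact (Nat.Prime 19) := ⟨by norm_num⟩
  exact orderOf_eq_prime (xbar_pow h π hk) (xbar_ne_one h π hk)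

theorem vbar_ne_one : π (VK h.toHyp) ≠ 1 := by
  intro e
  have hc := mem_center_of_map_one h π hk e
  have h1 := (ker_spec h π hk _ e).2
  have h2 : VK h.toHyp = 1 := by
    have : VK h.toHyp ^ 3 = VK h.toHyp * VK h.toHyp * VK h.toHyp := by rw [pow_succ, pow_two]
    rw [this, VK_sq, one_mul] at h1
    exact h1
  apply tau_not_comm h.toHyp
  have h3 : gC01 h.toHyp = 1 := congrArg Subtype.val h2
  rw [tau1, h3]
  simp

theorem orderOf_vbar : orderOf (π (VK h.toHyp)) = 2 := by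
  have : Fact (Nat.Prime 2) := ⟨by norm_num⟩
  exact orderOf_eq_prime (by rw [pow_two, ← map_mul, VK_sq, map_one]) (vbar_ne_one h π hk)

include hs

/-- the centralizer of the element of order 19 -/
theorem cent_xbar {y : G} (hy : y * π (XK h.toHyp) = π (XK h.toHyp) * y) :
    ∃ k : ℕ, y = π (XK h.toHyp) ^ k := by
  have hh := h.toHyp
  obtain ⟨Y, rfl⟩ := hs y
  have e1 : Y * XK h.toHyp * Y⁻¹ = XK h.toHyp := by
    apply eq_of_pow19 π (ker_spec h π hk)
    · rw [conj_pow, XK_pow]; group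
    · exact XK_pow _
    · rw [map_mul, map_mul, map_inv, hy]; group
  have e2 : (Y : GL F9 F) * tau0 h.toHyp = tau0 h.toHyp * (Y : GL F9 F) := by
    have := mul_inv_eq_iff_eq_mul.1 e1
    exact congrArg Subtype.val this
  obtain ⟨k, ζ, hζ, lam, e3, e4⟩ := centralizer_tau0 h Y.2 e2
  refine ⟨k, ?_⟩
  have e5 : Y = XK h.toHyp ^ k * ⟨ζ, hζ⟩ := Subtype.ext e4
  rw [e5, map_mul, map_pow,
    map_one_of_mem_center h π hk (scalar_mem_center h.toHyp (z := ⟨ζ, hζ⟩) e3), mul_one]

theorem family_sq {j : ℕ} (hj : j < NC) : EK h.toHyp (Ctab j) * EK h.toHyp (Ctab j) = 1 := by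
  obtain ⟨-, γ, hγ⟩ := exists_conj h.toHyp j hj
  have hq1 : EK h.toHyp (Qc 1) * EK h.toHyp (Qc 1) = 1 := (tsd_K h.toHyp).q1_sq
  rw [hγ]
  calc (γ * EK h.toHyp (Qc 1) * γ⁻¹) * (γ * EK h.toHyp (Qc 1) * γ⁻¹)
      = γ * (EK h.toHyp (Qc 1) * EK h.toHyp (Qc 1)) * γ⁻¹ := by group
    _ = 1 := by rw [hq1]; group

/-- every involution comes from the class table -/
theorem inv_code {u : G} (hu : orderOf u = 2) : ∃ j < NC, u = π (EK h.toHyp (Ctab j)) := by
  have hfin : Finite G := Finite.of_surjective π hs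
  have J := tsdj h π hs hk
  have hNC : NC = 26163 := rfl
  obtain ⟨j, hj⟩ := J.mem_family (fun j : Fin 26163 => π (EK h.toHyp (Ctab j)))
    (by
      intro j k e
      have hj : (j : ℕ) < NC := by rw [hNC]; exact j.2
      have hk' : (k : ℕ) < NC := by rw [hNC]; exact k.2
      have e2 := eq_of_involutions π (ker_spec h π hk) (family_sq h π hs hk hj)
        (family_sq h π hs hk hk') e
      exact Fin.ext (Ctab_inj j hj k hk' (EK_inj h.toHyp (exists_conj h.toHyp j hj).1
        (exists_conj h.toHyp k hk').1 (Ctab_lt _) (Ctab_lt _) e2)))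
    (by
      intro j
      have hj : (j : ℕ) < NC := by rw [hNC]; exact j.2
      obtain ⟨-, γ, hγ⟩ := exists_conj h.toHyp j hj
      exact ⟨π γ, by rw [hγ, map_mul, map_mul, map_inv]⟩)
    hu
  exact ⟨j, by rw [hNC]; exact j.2, hj⟩

/-- the element of order 19 is not conjugate to its inverse -/
theorem not_conj_inv : ¬ ∃ g : G, g * π (XK h.toHyp) * g⁻¹ = (π (XK h.toHyp))⁻¹ := by
  rintro ⟨g, hg⟩
  set x := π (XK h.toHyp) with hx
  have hx19 : x ^ 19 = 1 := xbar_pow h π hk
  have hx1 : x ≠ 1 := xbar_ne_one h π hk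
  have hg2 : (g * g) * x = x * (g * g) := by
    have e : g * x⁻¹ * g⁻¹ = x := by
      have := congrArg (fun t => t⁻¹) hg
      simp only [mul_inv_rev, inv_inv] at this
      rw [← mul_assoc] at this
      exact this
    calc (g * g) * x = g * (g * x * g⁻¹) * g := by group
      _ = (g * x⁻¹ * g⁻¹) * (g * g) := by rw [hg]; group
      _ = x * (g * g) := by rw [e]
  obtain ⟨k, hk2⟩ := cent_xbar h π hs hk hg2
  have hc18 : Commute (g ^ 18) x := by
    have : g ^ 18 = (g * g) ^ 9 := by rw [← pow_two, ← pow_mul]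
    rw [this]
    exact Commute.pow_left hg2 9
  set u := g ^ 19 with hu
  have hu1 : u * x * u⁻¹ = x⁻¹ := by
    have : u = g ^ 18 * g := by rw [hu, pow_succ]
    rw [this]
    calc g ^ 18 * g * x * (g ^ 18 * g)⁻¹ = g ^ 18 * (g * x * g⁻¹) * (g ^ 18)⁻¹ := by group
      _ = g ^ 18 * x⁻¹ * (g ^ 18)⁻¹ := by rw [hg]
      _ = x⁻¹ := by rw [(hc18.inv_right).eq]; group
  have hu2 : u * u = 1 := by
    have : u * u = (g * g) ^ 19 := by rw [hu, ← pow_two, ← pow_two, ← pow_mul, ← pow_mul]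
    rw [this, hk2, ← pow_mul, mul_comm, pow_mul, hx19, one_pow]
  have hune : u ≠ 1 := by
    intro e
    rw [e] at hu1
    simp only [one_mul, inv_one, mul_one] at hu1
    apply hx1
    have h2 : x ^ 2 = 1 := by
      rw [pow_two]
      nth_rewrite 1 [hu1]
      group
    have : x ^ 19 = (x ^ 2) ^ 9 * x := by rw [← pow_mul, ← pow_succ]
    rw [this, h2, one_pow, one_mul] at hx19
    exact hx19
  have hp2 : Fact (Nat.Prime 2) := ⟨by norm_num⟩
  have huo : orderOf u = 2 := orderOf_eq_prime (by rw [pow_two]; exact hu2) hune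
  obtain ⟨j, hj, e⟩ := inv_code h π hs hk huo
  set U := EK h.toHyp (Ctab j) with hU
  have hUU : U * U = 1 := family_sq h π hs hk hj
  have e1 : U * XK h.toHyp * U⁻¹ = (XK h.toHyp)⁻¹ := by
    apply eq_of_pow19 π (ker_spec h π hk)
    · rw [conj_pow, XK_pow]; group
    · rw [inv_pow, XK_pow, inv_one]
    · rw [map_mul, map_mul, map_inv, map_inv, ← e, ← hx, hu1]
  have hUi : U⁻¹ = U := inv_eq_of_mul_eq_one_left hUU
  have e2 : (XK h.toHyp * U) * (XK h.toHyp * U) = 1 := by
    calc (XK h.toHyp * U) * (XK h.toHyp * U) = XK h.toHyp * (U * XK h.toHyp * U) := by group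
      _ = XK h.toHyp * (U * XK h.toHyp * U⁻¹) := by rw [hUi]
      _ = 1 := by rw [e1]; group
  have hKc := (exists_conj h.toHyp j hj).1
  have hw := (isK_t0 h.toHyp).mul hKc
  rw [← EK_t0, hU, EK_mul h.toHyp (isK_t0 h.toHyp) hKc rfl, EK_mul h.toHyp hw hw rfl] at e2
  exact (chkO_spec hj).1 (trunc_of_one h.toHyp (hw.mul hw) e2)

end

end Cfsg.Agent.Lib.Helper56.J3
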