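import Mathlib
import Cfsg.Agent.Lib.Helper56.J3Out2

/-!
Automorphisms of `J₃` (helper56), part 3.
-/

set_option autoImplicit false
set_option linter.unusedSectionVars false

namespace Cfsg.Agent.Lib.Helper56.J3

open Cfsg.Spor

section
variable {F : Type*} [Field F] [Finite F] {ω : F} (h : Hyp4 ω) {G : Type*} [Group G]
  (π : KK h.toHyp →* G) (hs : Function.Surjective π) (hk : π.ker = Subgroup.center (KK h.toHyp))

include hs hk

/-- `x` and `v` generate -/
theorem eq_one_of_fix (β : MulAut G) (hx : β (π (XK h.toHyp)) = π (XK h.toHyp))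
    (hv : β (π (VK h.toHyp)) = π (VK h.toHyp)) : β = 1 := by
  have hh := h.toHyp
  let E : Subgroup (KK h.toHyp) := (β.toMonoidHom.comp π).eqLocus π
  have hXE : XK h.toHyp ∈ E := hx
  have hVE : VK h.toHyp ∈ E := hv
  have hle : KK h.toHyp ≤ E.map (KK h.toHyp).subtype := by
    have hcl : Subgroup.closure {tau0 h.toHyp, tau1 h.toHyp} ≤ E.map (KK h.toHyp).subtype := by
      rw [Subgroup.closure_le]
      rintro t (rfl | rfl)
      · exact ⟨XK h.toHyp, hXE, rfl⟩
      · exact ⟨VK h.toHyp * XK h.toHyp * VK h.toHyp, E.mul_mem (E.mul_mem hVE hXE) hVE, rfl⟩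
    exact hcl
  ext g
  obtain ⟨k, rfl⟩ := hs g
  obtain ⟨k', hk', e⟩ := hle k.2
  have : k' = k := Subtype.ext e
  rw [← this]
  exact hk'

/-- an automorphism fixing the element of order 19 is inner -/
theorem inner_of_fix (α : MulAut G) (hα : α (π (XK h.toHyp)) = π (XK h.toHyp)) :
    ∃ g : G, α = MulAut.conj g := by
  have hh := h.toHyp
  set x := π (XK h.toHyp) with hx
  set v := π (VK h.toHyp) with hv
  have huo : orderOf (α v) = 2 := by rw [MulEquiv.orderOf_eq, orderOf_vbar h π hk]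
  obtain ⟨j, hj, e⟩ := inv_code h π hs hk huo
  have hKc := (exists_conj h.toHyp j hj).1
  obtain ⟨r1, r2, r3⟩ := rel_K h.toHyp
  -- the relations for the image
  have s1 : π ((XK h.toHyp * EK h.toHyp (Ctab j)) ^ 4) = 1 := by
    have := congrArg (fun t => α (π t)) r1
    simp only [map_pow, map_mul, map_one] at this
    rw [← hx, ← hv, hα, e] at this
    simpa only [map_pow, map_mul] using this
  have s2 : π ((XK h.toHyp ^ 9 * EK h.toHyp (Ctab j) * XK h.toHyp ^ 13 * EK h.toHyp (Ctab j) *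
      XK h.toHyp ^ 14 * EK h.toHyp (Ctab j)) ^ 4) = 1 := by
    have := congrArg (fun t => α (π t)) r2
    simp only [map_pow, map_mul, map_one] at this
    rw [← hx, ← hv, hα, e] at this
    simpa only [map_pow, map_mul] using this
  have s3 : π ((XK h.toHyp ^ 3 * EK h.toHyp (Ctab j) * XK h.toHyp ^ 6 * EK h.toHyp (Ctab j) *
      XK h.toHyp ^ 13 * EK h.toHyp (Ctab j)) ^ 5) = 1 := by
    have := congrArg (fun t => α (π t)) r3
    simp only [map_pow, map_mul, map_one] at this
    rw [← hx, ← hv, hα, e] at this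
    simpa only [map_pow, map_mul] using this
  have t1 : col (p4 (mulCode t0c (Ctab j))) 0 < 4 := by
    have hw := (isK_t0 h.toHyp).mul hKc
    rw [← EK_t0, EK_mul h.toHyp (isK_t0 h.toHyp) hKc rfl, (EK_p4 h.toHyp hw).2] at s1
    exact col_lt_of_center h (EK_p4 h.toHyp hw).1 (mem_center_of_map_one h π hk s1)
  have t2 : col (p4 (word3 9 13 14 (Ctab j))) 0 < 4 := by
    have h1 := EK_word3 h.toHyp (a := 9) (b := 13) (c := 14) (by norm_num) (by norm_num)
      (by norm_num) hKc
    rw [h1.2, (EK_p4 h.toHyp h1.1).2] at s2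
    exact col_lt_of_center h (EK_p4 h.toHyp h1.1).1 (mem_center_of_map_one h π hk s2)
  have t3 : col (p5 (word3 3 6 13 (Ctab j))) 0 < 4 := by
    have h1 := EK_word3 h.toHyp (a := 3) (b := 6) (c := 13) (by norm_num) (by norm_num)
      (by norm_num) hKc
    rw [h1.2, (EK_p5 h.toHyp h1.1).2] at s3
    exact col_lt_of_center h (EK_p5 h.toHyp h1.1).1 (mem_center_of_map_one h π hk s3)
  rcases (chkO_spec hj).2 with c | c | c | ⟨i, hi, c⟩
  · omega
  · omega
  · omega
  · rw [c, EK_Vtab h.toHyp hi, map_mul, map_mul, map_inv, map_pow, ← hx, ← hv] at e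
    refine ⟨x ^ i, ?_⟩
    have hβ : (MulAut.conj (x ^ i))⁻¹ * α = 1 := by
      apply eq_one_of_fix h π hs hk
      · rw [MulAut.mul_apply, ← hx, hα, ← map_inv, MulAut.conj_apply]
        group
      · rw [MulAut.mul_apply, ← hv, e, ← map_inv, MulAut.conj_apply]
        group
    exact (inv_mul_eq_one.1 hβ).symm

/-- every automorphism maps `x` to a conjugate of `x` or of its inverse -/
theorem conj_pm (α : MulAut G) : ∃ g : G, g * α (π (XK h.toHyp)) * g⁻¹ = π (XK h.toHyp) ∨
    g * α (π (XK h.toHyp)) * g⁻¹ = (π (XK h.toHyp))⁻¹ := by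
  have hh := h.toHyp
  have hfin : Finite G := Finite.of_surjective π hs
  have hp : Fact (Nat.Prime 19) := ⟨by norm_num⟩
  set x := π (XK h.toHyp) with hx
  have hxo : orderOf x = 19 := orderOf_xbar h π hk
  have hcard : Nat.card G = 50232960 := (tsdj h π hs hk).card
  have hS : IsPGroup 19 (Subgroup.zpowers x) :=
    IsPGroup.of_card (n := 1) (by rw [Nat.card_zpowers, hxo]; norm_num)
  have hi : ¬ 19 ∣ (Subgroup.zpowers x).index := by
    have h1 := (Subgroup.zpowers x).card_mul_index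
    rw [Nat.card_zpowers, hxo, hcard] at h1
    have : (Subgroup.zpowers x).index = 2643840 := by omega
    rw [this]
    decide
  have hP : IsPGroup 19 (Subgroup.zpowers (α x)) :=
    IsPGroup.of_card (n := 1) (by rw [Nat.card_zpowers, MulEquiv.orderOf_eq, hxo]; norm_num)
  obtain ⟨g, hg⟩ := exists_conj_mem_of_index _ hS hi hP
  obtain ⟨n, hn⟩ := mem_powers_iff_mem_zpowers.2 hg
  have hn' : x ^ (n % 19) = g * α x * g⁻¹ := by
    rw [← hn, ← hxo, pow_mod_orderOf]
  set m := n % 19 with hm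
  have hm19 : m < 19 := Nat.mod_lt _ (by norm_num)
  have hm0 : m ≠ 0 := by
    intro e
    rw [e, pow_zero] at hn'
    have h1 : α x = 1 := by
      have : α x = g⁻¹ * (g * α x * g⁻¹) * g := by group
      rw [this, ← hn']
      group
    have h2 : x = 1 := by
      have := congrArg α.symm h1
      simpa using this
    exact xbar_ne_one h π hk h2
  obtain ⟨c1, c2, c3⟩ := N_chk m hm19 hm0
  have hKN : IsK h.toHyp (Ntab m) := exists_of_sift h.toHyp c1
  have he19 : eN m < 19 := by rcases c3 with c3 | c3 <;> omega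
  have e1 : EK h.toHyp (Ntab m) * XK h.toHyp ^ m = XK h.toHyp ^ (eN m) * EK h.toHyp (Ntab m) := by
    rw [← EK_xpow h.toHyp hm19, ← EK_xpow h.toHyp he19, EK_mul h.toHyp hKN (isK_xpow h.toHyp hm19) c2,
      EK_mul h.toHyp (isK_xpow h.toHyp he19) hKN rfl]
  have e2 : π (EK h.toHyp (Ntab m)) * x ^ m * (π (EK h.toHyp (Ntab m)))⁻¹ = x ^ (eN m) := by
    rw [mul_inv_eq_iff_eq_mul, hx, ← map_pow, ← map_pow, ← map_mul, ← map_mul, e1]
  refine ⟨π (EK h.toHyp (Ntab m)) * g, ?_⟩
  have e3 : π (EK h.toHyp (Ntab m)) * g * α x * (π (EK h.toHyp (Ntab m)) * g)⁻¹ = x ^ (eN m) := by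
    rw [← e2, hn']
    group
  rw [e3]
  rcases c3 with c3 | c3
  · left; rw [c3, pow_one]
  · right
    rw [c3]
    apply eq_inv_of_mul_eq_one_left
    rw [← pow_succ]
    exact xbar_pow h π hk

end

end Cfsg.Agent.Lib.Helper56.J3
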