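import Mathlib
import Cfsg.Prelude.Def_KGroupFacts
import Cfsg.Agent.Lib.Helper56.J3Out3

/-!
Automorphisms of `J₃` (helper56), part 4: the outer automorphism and `|Out(J₃)| = 2`.
-/

set_option autoImplicit false
set_option linter.unusedSectionVars false

namespace Cfsg.Agent.Lib.Helper56.J3

open Cfsg.Spor

section
variable {F : Type*} [Field F] [Finite F] {ω : F}

def MG (h : Hyp ω) : GL F9 F := mkGL h Mc Mic M_chk.1 M_chk.2.1

/-- Frobenius followed by conjugation with `M` -/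
def ThetaGL (h : Hyp ω) : GL F9 F →* GL F9 F :=
  (MulAut.conj (MG h)).toMonoidHom.comp (Matrix.GeneralLinearGroup.map (sqHom h))

theorem rep_Theta (h : Hyp ω) {g : GL F9 F} {c : ℕ} (hg : Rep ω g c) :
    Rep ω (ThetaGL h g) (mulCode (mulCode Mc (frobC c)) Mic) := by
  have h1 : Rep ω (Matrix.GeneralLinearGroup.map (sqHom h) g) (frobC c) := by
    unfold Rep at *
    rw [decM_frobC h, ← hg]
    rfl
  have h2 : Rep ω (MG h) Mc := rep_mkGL h _ _ _ _
  have h3 : Rep ω (MG h)⁻¹ Mic := rfl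
  exact (h2.mul h h1).mul h h3

theorem Theta_injective (h : Hyp ω) : Function.Injective (ThetaGL h) := by
  intro a b e
  have e1 : Matrix.GeneralLinearGroup.map (sqHom h) a = Matrix.GeneralLinearGroup.map (sqHom h) b :=
    (MulAut.conj (MG h)).injective e
  apply Units.ext
  ext i j
  have := congrArg (fun g : GL F9 F => (g : Matrix F9 F9 F) i j) e1
  exact (sqHom h).injective this

theorem Theta_tau0 (h : Hyp ω) : ThetaGL h (tau0 h) = tau0 h ^ 18 :=
  ((rep_Theta h (rep_tau0 h)).of_eq M_chk.2.2.1).ext (rep_pow h 18 (by norm_num))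

theorem Theta_mem (h : Hyp ω) {g : GL F9 F} (hg : g ∈ KK h) : ThetaGL h g ∈ KK h := by
  have hle : KK h ≤ (KK h).comap (ThetaGL h) := by
    have hcl : Subgroup.closure {tau0 h, tau1 h} ≤ (KK h).comap (ThetaGL h) := by
      rw [Subgroup.closure_le]
      rintro t (rfl | rfl)
      · show ThetaGL h (tau0 h) ∈ KK h
        rw [Theta_tau0]
        exact Subgroup.pow_mem _ (tau0_mem h) _
      · show ThetaGL h (tau1 h) ∈ KK h
        obtain ⟨d, hd, hr⟩ := exists_of_sift h M_chk.2.2.2.2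
        rw [((rep_Theta h (rep_tau1 h)).of_eq M_chk.2.2.2.1).ext hr]
        exact hd
    exact hcl
  exact hle hg

def ThetaHom (h : Hyp ω) : KK h →* KK h :=
  ((ThetaGL h).comp (KK h).subtype).codRestrict (KK h) (fun k => Theta_mem h k.2)

theorem ThetaHom_bijective (h : Hyp ω) : Function.Bijective (ThetaHom h) := by
  apply Finite.injective_iff_bijective.1
  intro a b e
  exact Subtype.ext (Theta_injective h (congrArg Subtype.val e))

noncomputable def ThetaK (h : Hyp ω) : KK h ≃* KK h :=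
  MulEquiv.ofBijective (ThetaHom h) (ThetaHom_bijective h)

theorem ThetaK_X (h : Hyp ω) : ThetaK h (XK h) = (XK h)⁻¹ := by
  have e : ThetaK h (XK h) = XK h ^ 18 := Subtype.ext (Theta_tau0 h)
  rw [e]
  apply eq_inv_of_mul_eq_one_left
  rw [← pow_succ]
  exact XK_pow h

/-- the outer automorphism -/
noncomputable def thetaJ (h : Hyp ω) : MulAut (KK h ⧸ Subgroup.center (KK h)) :=
  QuotientGroup.congr _ _ (ThetaK h)
    (Subgroup.characteristic_iff_map_eq.1 Subgroup.centerCharacteristic (ThetaK h))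

theorem thetaJ_mk (h : Hyp ω) (k : KK h) :
    thetaJ h (QuotientGroup.mk' _ k) = QuotientGroup.mk' _ (ThetaK h k) := rfl

theorem card_out_KK (h : Hyp4 ω) :
    Nat.card (Cfsg.Out (KK h.toHyp ⧸ Subgroup.center (KK h.toHyp))) = 2 := by
  have hh := h.toHyp
  set π := QuotientGroup.mk' (Subgroup.center (KK h.toHyp)) with hπ
  have hs : Function.Surjective π := QuotientGroup.mk'_surjective _
  have hk : π.ker = Subgroup.center (KK h.toHyp) := QuotientGroup.ker_mk' _
  set x := π (XK h.toHyp) with hx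
  have hθx : thetaJ h.toHyp x = x⁻¹ := by
    rw [hx, hπ, thetaJ_mk, ThetaK_X, map_inv]
  have hB : ∀ α : MulAut (KK h.toHyp ⧸ Subgroup.center (KK h.toHyp)), α x = x →
      α ∈ Cfsg.Inn (KK h.toHyp ⧸ Subgroup.center (KK h.toHyp)) := by
    intro α hα
    obtain ⟨g, hg⟩ := inner_of_fix h π hs hk α hα
    exact ⟨g, hg.symm⟩
  have hconj : ∀ g, MulAut.conj g ∈ Cfsg.Inn (KK h.toHyp ⧸ Subgroup.center (KK h.toHyp)) :=
    fun g => ⟨g, rfl⟩
  have hθ : thetaJ h.toHyp ∉ Cfsg.Inn (KK h.toHyp ⧸ Subgroup.center (KK h.toHyp)) := by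
    rintro ⟨g, hg⟩
    apply not_conj_inv h π hs hk
    refine ⟨g, ?_⟩
    rw [← hx, ← hθx, ← hg, MulAut.conj_apply]
  show Nat.card (MulAut (KK h.toHyp ⧸ Subgroup.center (KK h.toHyp)) ⧸
    Cfsg.Inn (KK h.toHyp ⧸ Subgroup.center (KK h.toHyp))) = 2
  rw [← Subgroup.index_eq_card, Subgroup.index_eq_two_iff]
  refine ⟨thetaJ h.toHyp, fun β => ?_⟩
  by_cases hβ : β ∈ Cfsg.Inn (KK h.toHyp ⧸ Subgroup.center (KK h.toHyp))
  · right
    refine ⟨hβ, fun h2 => hθ ?_⟩
    have : thetaJ h.toHyp = β⁻¹ * (β * thetaJ h.toHyp) := by group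
    rw [this]
    exact Subgroup.mul_mem _ (Subgroup.inv_mem _ hβ) h2
  · left
    refine ⟨?_, hβ⟩
    obtain ⟨g, hg⟩ := conj_pm h π hs hk β
    rw [← hx] at hg
    rcases hg with hg | hg
    · exfalso
      apply hβ
      have h1 : MulAut.conj g * β ∈ Cfsg.Inn (KK h.toHyp ⧸ Subgroup.center (KK h.toHyp)) := by
        apply hB
        rw [MulAut.mul_apply, MulAut.conj_apply]
        exact hg
      have : β = (MulAut.conj g)⁻¹ * (MulAut.conj g * β) := by group
      rw [this]
      exact Subgroup.mul_mem _ (Subgroup.inv_mem _ (hconj g)) h1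
    · have h1 : MulAut.conj g * (β * thetaJ h.toHyp) ∈
          Cfsg.Inn (KK h.toHyp ⧸ Subgroup.center (KK h.toHyp)) := by
        apply hB
        rw [MulAut.mul_apply, MulAut.mul_apply, hθx, map_inv, MulAut.conj_apply]
        have : g * (β x)⁻¹ * g⁻¹ = (g * β x * g⁻¹)⁻¹ := by group
        rw [this, hg, inv_inv]
      have : β * thetaJ h.toHyp = (MulAut.conj g)⁻¹ * (MulAut.conj g * (β * thetaJ h.toHyp)) := by
        group
      rw [this]
      exact Subgroup.mul_mem _ (Subgroup.inv_mem _ (hconj g)) h1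

theorem card_out_of_eq (h : Hyp4 ω) (X : Subgroup (GL F9 F)) (hX : X = KK h.toHyp) :
    Nat.card (Cfsg.Out (X ⧸ Subgroup.center X)) = 2 := by
  subst hX
  exact card_out_KK h

end

end Cfsg.Agent.Lib.Helper56.J3
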