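import Mathlib
import Cfsg.Prelude.Def_SporadicCombinatorics
import Cfsg.Agent.Lib.Helper56.TGMask

/-!
# Counting the Steiner systems S(5,6,12) through a given hexad

A verified exhaustive search (run by the kernel) shows that there are at most 720 Steiner systems
`S(5,6,12)` on the 12 points `ArrayPt` containing the block `unmask 4032`.

State of the search: a bitmap `cov` (bit `t` set iff the 5-set with mask `t` is covered by one of the
blocks chosen so far).  The 31 low bits of the bitmaps are not used (no 5-set has a mask below 31);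
they carry junk whose only purpose is to give the big literals different hash values in the kernel.
-/

set_option autoImplicit false

namespace Cfsg.Agent.Lib.Helper56.St12

open Cfsg
open Cfsg.Agent.Lib.Helper56.TG
open Cfsg.Agent.Lib.Helper27 (pc allBelow allBelow_iff shiftRight_and_one)

/-! ### the search -/

/-- strict application: forces the kernel to evaluate `n` to a literal first. -/
def force (n : ℕ) (f : ℕ → ℕ) : ℕ := Nat.rec (f 0) (fun k _ => f (Nat.succ k)) n

def tb (m i : ℕ) : Bool := Nat.beq (Nat.land (Nat.shiftRight m i) 1) 1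

def or12 (f : ℕ → ℕ) : ℕ :=
  Nat.lor (f 0) (Nat.lor (f 1) (Nat.lor (f 2) (Nat.lor (f 3) (Nat.lor (f 4) (Nat.lor (f 5)
    (Nat.lor (f 6) (Nat.lor (f 7) (Nat.lor (f 8) (Nat.lor (f 9) (Nat.lor (f 10) (f 11)))))))))))

def sum12 (f : ℕ → ℕ) : ℕ :=
  Nat.add (f 0) (Nat.add (f 1) (Nat.add (f 2) (Nat.add (f 3) (Nat.add (f 4) (Nat.add (f 5)
    (Nat.add (f 6) (Nat.add (f 7) (Nat.add (f 8) (Nat.add (f 9) (Nat.add (f 10) (f 11)))))))))))

/-- bitmap of all 5-sets. -/
def full5 : ℕ := 0x100000000000000010000000100010116000000000000000100000001000101160000000100010116000101160116166800000000000000010000000100010116000000010001011600010116011616680000000100010116000101160116166800010116011616680116166816686880000000000000000100000001000101160000000100010116000101160116166800000001000101160001011601161668000101160116166801161668166868800000000100010116000101160116166800010116011616680116166816686880000101160116166801161668166868800116166816686880166868806880800000000000000000010000000100010116000000010001011600010116011616680000000100010116000101160116166800010116011616680116166816686880000000010001011600010116011616680001011601161668011616681668688000010116011616680116166816686880011616681668688016686880688080000000000100010116000101160116166800010116011616680116166816686880000101160116166801161668166868800116166816686880166868806880800000010116011616680116166816686880011616681668688016686880688080000116166816686880166868806880800016686880688080006880800080000000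

/-- bitmap of the sets obtained from `m` by deleting one point. -/
def del1 (m : ℕ) : ℕ :=
  or12 (fun i => cond (tb m i) (Nat.shiftLeft 1 (Nat.xor m (Nat.shiftLeft 1 i))) 0)

/-- the same with some junk in the 31 low bits. -/
def del1s (m : ℕ) : ℕ := Nat.lor (del1 m) (Nat.mod (Nat.mul m 2654435761) 2147483648)

def hbStep (x k r : ℕ) : ℕ := cond (Nat.beq (Nat.shiftRight x (Nat.add r k)) 0) r (Nat.add r k)

/-- continuation passing computation of (what should be) the highest bit of `x`. -/
def hb (x : ℕ) (f : ℕ → ℕ) : ℕ :=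
  force (hbStep x 2048 0) fun r => force (hbStep x 1024 r) fun r => force (hbStep x 512 r) fun r =>
  force (hbStep x 256 r) fun r => force (hbStep x 128 r) fun r => force (hbStep x 64 r) fun r =>
  force (hbStep x 32 r) fun r => force (hbStep x 16 r) fun r => force (hbStep x 8 r) fun r =>
  force (hbStep x 4 r) fun r => force (hbStep x 2 r) fun r => force (hbStep x 1 r) f

def term (ih : ℕ → ℕ) (cov s z : ℕ) : ℕ :=
  cond (tb s z) 0 (force (del1s (Nat.lor s (Nat.shiftLeft 1 z))) (fun c =>
    cond (Nat.beq (Nat.shiftRight (Nat.land c cov) 31) 0) (force (Nat.xor cov c) ih) 0))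

def body (ih : ℕ → ℕ) (cov x : ℕ) : ℕ :=
  cond (Nat.beq (Nat.shiftRight x 31) 0) 1
    (hb x (fun s => cond (tb full5 s) (cond (tb cov s) 1000000 (sum12 (term ih cov s))) 1000000))

def count (fuel : ℕ) : ℕ → ℕ :=
  Nat.rec (fun _ => 1000000) (fun _ ih cov => force (Nat.xor full5 cov) (body ih cov)) fuel

set_option maxRecDepth 100000 in
theorem count_eq : force (del1s 4032) (count 132) = 720 := by decide +kernel

/-! ### unfolding lemmas -/

theorem force_eq (n : ℕ) (f : ℕ → ℕ) : force n f = f n := by cases n <;> rfl

theorem tb_eq (m i : ℕ) : tb m i = m.testBit i := by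
  show Nat.beq ((m >>> i) &&& 1) 1 = _
  rw [shiftRight_and_one]
  cases m.testBit i <;> rfl

theorem testBit_or12 (f : ℕ → ℕ) (t : ℕ) :
    (or12 f).testBit t = true ↔ ∃ i < 12, (f i).testBit t = true := by
  show (f 0 ||| (f 1 ||| (f 2 ||| (f 3 ||| (f 4 ||| (f 5 ||| (f 6 ||| (f 7 ||| (f 8 ||| (f 9 |||
    (f 10 ||| f 11))))))))))).testBit t = true ↔ _
  simp only [Nat.testBit_or, Bool.or_eq_true]
  constructor
  · rintro (h | h | h | h | h | h | h | h | h | h | h | h)
    exacts [⟨0, by norm_num, h⟩, ⟨1, by norm_num, h⟩, ⟨2, by norm_num, h⟩, ⟨3, by norm_num, h⟩,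
      ⟨4, by norm_num, h⟩, ⟨5, by norm_num, h⟩, ⟨6, by norm_num, h⟩, ⟨7, by norm_num, h⟩,
      ⟨8, by norm_num, h⟩, ⟨9, by norm_num, h⟩, ⟨10, by norm_num, h⟩, ⟨11, by norm_num, h⟩]
  · rintro ⟨i, hi, h⟩
    interval_cases i <;> simp [h]

theorem sum12_eq (f : ℕ → ℕ) : sum12 f = ∑ z ∈ Finset.range 12, f z := by
  show f 0 + (f 1 + (f 2 + (f 3 + (f 4 + (f 5 + (f 6 + (f 7 + (f 8 + (f 9 + (f 10 + f 11)))))))))) = _
  simp only [Finset.sum_range_succ, Finset.sum_range_zero]
  omega

theorem testBit_del1 (m t : ℕ) :
    (del1 m).testBit t = true ↔ ∃ i < 12, m.testBit i = true ∧ t = m ^^^ 2 ^ i := by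
  rw [del1, testBit_or12]
  apply exists_congr
  intro i
  apply and_congr_right
  intro _
  rw [tb_eq]
  cases h : m.testBit i
  · simp
  · show (1 <<< (m ^^^ 1 <<< i)).testBit t = true ↔ _
    rw [Nat.one_shiftLeft, Nat.one_shiftLeft, Nat.testBit_two_pow]
    simp [eq_comm]

theorem testBit_del1s (m : ℕ) {t : ℕ} (ht : 31 ≤ t) : (del1s m).testBit t = (del1 m).testBit t := by
  show (del1 m ||| (m * 2654435761) % 2147483648).testBit t = _
  rw [Nat.testBit_or]
  have h1 : (m * 2654435761) % 2147483648 < 2 ^ t :=
    lt_of_lt_of_le (Nat.mod_lt _ (by norm_num))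
      (le_trans (by norm_num) (Nat.pow_le_pow_right (by norm_num) ht))
  rw [Nat.testBit_lt_two_pow h1, Bool.or_false]

def hbv (x : ℕ) : ℕ :=
  hbStep x 1 (hbStep x 2 (hbStep x 4 (hbStep x 8 (hbStep x 16 (hbStep x 32 (hbStep x 64
    (hbStep x 128 (hbStep x 256 (hbStep x 512 (hbStep x 1024 (hbStep x 2048 0)))))))))))

theorem hb_eq (x : ℕ) (f : ℕ → ℕ) : hb x f = f (hbv x) := by
  simp only [hb, force_eq, hbv]

theorem count_zero (cov : ℕ) : count 0 cov = 1000000 := rfl

theorem count_succ (fuel cov : ℕ) :
    count (fuel + 1) cov = body (count fuel) cov (full5 ^^^ cov) := by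
  show force (Nat.xor full5 cov) (body (count fuel) cov) = _
  rw [force_eq]; rfl

theorem beq_zero (a : ℕ) : Nat.beq a 0 = decide (a = 0) := by
  cases a with
  | zero => rfl
  | succ n => simp [Nat.beq]

theorem term_eq (ih : ℕ → ℕ) (cov s z : ℕ) : term ih cov s z =
    if s.testBit z = true then 0 else
      if (del1s (s ||| 2 ^ z) &&& cov) >>> 31 = 0 then ih (cov ^^^ del1s (s ||| 2 ^ z)) else 0 := by
  unfold term
  rw [tb_eq, force_eq, force_eq]
  have e : Nat.lor s (Nat.shiftLeft 1 z) = s ||| 2 ^ z := by
    show s ||| 1 <<< z = _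
    rw [Nat.one_shiftLeft]
  rw [e]
  cases h : s.testBit z
  · simp only [cond_false, Bool.false_eq_true, if_false]
    by_cases h2 : (del1s (s ||| 2 ^ z) &&& cov) >>> 31 = 0
    · rw [if_pos h2]
      have : Nat.beq (Nat.shiftRight (Nat.land (del1s (s ||| 2 ^ z)) cov) 31) 0 = true := by
        rw [beq_zero]; exact decide_eq_true h2
      rw [this]; rfl
    · rw [if_neg h2]
      have : Nat.beq (Nat.shiftRight (Nat.land (del1s (s ||| 2 ^ z)) cov) 31) 0 = false := by
        rw [beq_zero]; exact decide_eq_false h2
      rw [this]; rfl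
  · simp

theorem body_eq (ih : ℕ → ℕ) (cov x : ℕ) : body ih cov x =
    if x >>> 31 = 0 then 1 else
      if full5.testBit (hbv x) = true then
        if cov.testBit (hbv x) = true then 1000000 else ∑ z ∈ Finset.range 12, term ih cov (hbv x) z
      else 1000000 := by
  unfold body
  rw [hb_eq, tb_eq, tb_eq, sum12_eq]
  by_cases h : x >>> 31 = 0
  · rw [if_pos h]
    have : Nat.beq (Nat.shiftRight x 31) 0 = true := by
      rw [beq_zero]; exact decide_eq_true h
    rw [this]; rfl
  · rw [if_neg h]
    have : Nat.beq (Nat.shiftRight x 31) 0 = false := by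
      rw [beq_zero]; exact decide_eq_false h
    rw [this]
    cases full5.testBit (hbv x) <;> cases cov.testBit (hbv x) <;> simp

end Cfsg.Agent.Lib.Helper56.St12
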