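import Mathlib
import Cfsg.Prelude.Def_SporadicCombinatorics
import Cfsg.Agent.Lib.Helper56.TGMask

/-!
# Computational model of the ternary Golay code `Cfsg.ternaryGolayCode`
-/

set_option autoImplicit false

namespace Cfsg.Agent.Lib.Helper56.TG

open Cfsg
open Cfsg.Agent.Lib.Helper27 (pc allBelow allBelow_iff)

abbrev Wd : Type := ArrayPt → ZMod 3

/-- decidable form of `IsTernaryGolayWord`. -/
def isWord (x : Wd) : Prop :=
  ∃ s : ZMod 3, (∀ i : Fin 4, ∑ r : ZMod 3, x (i, r) = -s) ∧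
    ∀ a b : ZMod 3, ∑ i : Fin 4, x (i, (a • (![0, 1, 1, 1] : Fin 4 → ZMod 3) + b • (![1, 0, 1, 2] : Fin 4 → ZMod 3) : Fin 4 → ZMod 3) i) = s

instance : DecidablePred isWord := fun x => by unfold isWord; infer_instance

theorem mem_code_iff (x : Wd) : x ∈ ternaryGolayCode ↔ isWord x := by
  show IsTernaryGolayWord x ↔ isWord x
  unfold IsTernaryGolayWord isWord tetracode
  constructor
  · rintro ⟨s, h1, h2⟩
    exact ⟨s, h1, fun a b => h2 _ (Submodule.mem_span_pair.2 ⟨a, b, rfl⟩)⟩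
  · rintro ⟨s, h1, h2⟩
    refine ⟨s, h1, fun t ht => ?_⟩
    obtain ⟨a, b, rfl⟩ := Submodule.mem_span_pair.1 ht
    exact h2 a b

/-- entries of the systematic basis (information positions 0,1,2,3,4,6). -/
def gl : ℕ → List (ZMod 3)
  | 0 => [1, 0, 0, 0, 0, 1, 0, 0, 1, 1, 1, 2]
  | 1 => [0, 1, 0, 0, 0, 1, 0, 2, 2, 2, 0, 2]
  | 2 => [0, 0, 1, 0, 0, 1, 0, 1, 0, 2, 1, 1]
  | 3 => [0, 0, 0, 1, 0, 2, 0, 2, 1, 2, 1, 0]
  | 4 => [0, 0, 0, 0, 1, 2, 0, 1, 2, 0, 1, 2]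
  | 5 => [0, 0, 0, 0, 0, 0, 1, 1, 1, 2, 2, 2]
  | _ => []

/-- the systematic basis. -/
def g (j : ℕ) : Wd := fun p => (gl j).getD (idx p) 0

theorem g_mem : ∀ j < 6, g j ∈ ternaryGolayCode := by
  simp only [mem_code_iff]
  decide +kernel

abbrev A : Type := ZMod 3 × ZMod 3 × ZMod 3 × ZMod 3 × ZMod 3 × ZMod 3

def enc (a : A) : Wd :=
  a.1 • g 0 + a.2.1 • g 1 + a.2.2.1 • g 2 + a.2.2.2.1 • g 3 + a.2.2.2.2.1 • g 4 + a.2.2.2.2.2 • g 5

theorem enc_mem (a : A) : enc a ∈ ternaryGolayCode := by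
  unfold enc
  have h := g_mem
  refine Submodule.add_mem _ (Submodule.add_mem _ (Submodule.add_mem _ (Submodule.add_mem _
    (Submodule.add_mem _ ?_ ?_) ?_) ?_) ?_) ?_ <;>
  exact Submodule.smul_mem _ _ (h _ (by decide))

/-- the information coordinates. -/
def info (x : Wd) : A := (x (pt 0), x (pt 1), x (pt 2), x (pt 3), x (pt 4), x (pt 6))

theorem info_enc : ∀ a : A, info (enc a) = a := by decide +kernel

/-- a word vanishing on the information positions. -/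
def asm (y0 y1 y2 y3 y4 y5 : ZMod 3) : Wd :=
  fun p => ([0, 0, 0, 0, 0, y0, 0, y1, y2, y3, y4, y5] : List (ZMod 3)).getD (idx p) 0

theorem asm_zero : ∀ y0 y1 y2 y3 y4 y5 : ZMod 3, isWord (asm y0 y1 y2 y3 y4 y5) →
    y0 = 0 ∧ y1 = 0 ∧ y2 = 0 ∧ y3 = 0 ∧ y4 = 0 ∧ y5 = 0 := by decide +kernel

theorem eq_zero_of_info {y : Wd} (hy : y ∈ ternaryGolayCode) (h : info y = 0) : y = 0 := by
  have h' : y (pt 0) = 0 ∧ y (pt 1) = 0 ∧ y (pt 2) = 0 ∧ y (pt 3) = 0 ∧ y (pt 4) = 0 ∧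
      y (pt 6) = 0 := by
    simpa [info, Prod.ext_iff] using h
  obtain ⟨h0, h1, h2, h3, h4, h6⟩ := h'
  have e : y = asm (y (pt 5)) (y (pt 7)) (y (pt 8)) (y (pt 9)) (y (pt 10)) (y (pt 11)) := by
    funext p
    revert p
    apply forall_pt
    intro i hi
    interval_cases i
    · exact h0
    · exact h1
    · exact h2
    · exact h3
    · exact h4
    · rfl
    · exact h6
    · rfl
    · rfl
    · rfl
    · rfl
    · rfl
  rw [mem_code_iff, e] at hy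
  obtain ⟨a0, a1, a2, a3, a4, a5⟩ := asm_zero _ _ _ _ _ _ hy
  rw [e, a0, a1, a2, a3, a4, a5]
  funext p
  revert p
  decide

theorem info_sub (x y : Wd) : info (x - y) = info x - info y := rfl

theorem eq_enc {x : Wd} (hx : x ∈ ternaryGolayCode) : x = enc (info x) := by
  have h : x - enc (info x) = 0 := by
    apply eq_zero_of_info (Submodule.sub_mem _ hx (enc_mem _))
    rw [info_sub, info_enc, sub_self]
  exact sub_eq_zero.1 h

theorem enc_injective : Function.Injective enc := fun a b h => by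
  rw [← info_enc a, ← info_enc b, h]

theorem mem_code_iff_enc (x : Wd) : x ∈ ternaryGolayCode ↔ ∃ a : A, enc a = x :=
  ⟨fun h => ⟨_, (eq_enc h).symm⟩, by rintro ⟨a, rfl⟩; exact enc_mem a⟩

/-- the parametrisation of the code. -/
noncomputable def encEquiv : A ≃ ternaryGolayCode :=
  Equiv.ofBijective (fun a => ⟨enc a, enc_mem a⟩)
    ⟨fun _ _ h => enc_injective (congrArg Subtype.val h),
     fun x => ⟨info x.1, Subtype.ext (eq_enc x.2).symm⟩⟩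

/-- support mask of a word, computable. -/
def sm (x : Wd) : ℕ := Nat.ofBits (fun i : Fin 12 => decide (x (pt i) ≠ 0))

theorem mask_support (x : Wd) : mask (ternarySupport x) = sm x := by
  unfold mask sm ternarySupport
  congr 1
  funext i
  simp

def index (a : A) : ℕ :=
  a.1.val + 3 * a.2.1.val + 9 * a.2.2.1.val + 27 * a.2.2.2.1.val + 81 * a.2.2.2.2.1.val +
    243 * a.2.2.2.2.2.val

/-- packed table of the support masks of the 729 words. -/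
def tbl : ℕ := 0x1fffffedea7fd5f77ebdd6fddfcfff5dfafe6dffff9fed7de7d35cf5bb7b47acfb3fbfda7f98d9ff875fc7fb7effffff0decfd7ddbfcfff2ffdde57fb5fe7eedd9fd7fc9fbedb7fabdb5fbefa279f79d586f7bd7df6dd7af77f6f75175e54857777f763f7cf7fd6bf5fd54f4ef3df33d2f736539725d1ff1af0cdffff3fefff4ffbde77df5d87c67f97ff5efffadf5feddd3fdefcafb7dbdfa15be7bf7abf9df96d8fff9df6fee5f37fd7e5fdafdfdc3dffffcfe8fffff7deb7d45df7cd7b77ba5a6fbddbbfafd9ef91f8b77e775569f77d7ef62d5df5ff45f7ed7bf6f57d77276ef57f59d4fd30f3ff27f3bf3cd2c71b51770d6f24ff6e7cf9efeeeeedbed5ccbcfcef7eeb6f76fc4e0edfcdfec7ebeeb9cadebfcb2eae49569b68aef5effce3efecfdee94df6d66ce6ff4f16edcf6efbee7eddedacc4cbbebfeaf6b86b74afe93c9ce8fc77e78e6467f67b46fe5cc53e4de7be76c6ee71c7fe6745a65d64363d43e62ac3fe35e29e16e1fc0fff8ff7defff3dfcfe45db7df7c37fe5fd7e9dffff6feafd5fdfdcddb6fbbfa77bd7ba5aef9fd91f8adffff5fe97f67ff5e3fddddefc4fffffbdefffcdf3fef5d77d87ce7b15bf7a7dba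fbdfadf9bf96d8d77f57276ed75f7bf67f5ef59d47d79f7ef6e77b77556df52d5ff4bf37f3cd20f3fd3ff2b51c71770b5f57fe7e2fffffdde9fdedd7fcffffff0dec7f75fb7e7ddcfdbfc5fbbdbefaedb9fb7faf79279d58fff6df9fe5dffffafee7dd7d35cd5fa7f77efff1ffede6fdbdddfc3fbcfbfdab7bf5b47a8d97f9ff8cf73f7fd6777857f76fd5bf54f4af7dd77f6bd76f7df6175f75e54653f73972df3ef33d2ff15d1af06efdcfbeef4fe6f16eded7edaccecf3efdee5efaeffcef6d94d66c86bf6b74abeb4cbfea3c9fe9ce876fb6fc4ecefbcf7eefcd0edfec9ef7cfeee24fd6ff6ebedeed5ccfcbdeb2eaeeb7eb9ca569e49b681c7ee7fe6be7de76c6a65745d64f67467b467e7fc78e6cc5fe53e4fe3ac35e2d43363e626e19e1fc0e3f73f91e5bfe9fbbef9ddbd2bccbfb9f7bef1f03ff3e7bdbbdc9c29bdbbfbabbbebb59a939719e38d9f3bfebe6bf9bff9ef3da1d53cb3fd3f61eabf79fdbe19debdfbc7bbf9b8bac1bf3b33afb94b9b98bb7497fb6317f37c368b5fb5794f97eb71b6db77b7a96635d15b34533a33f12fb39936b2e913b1db079fabfdbed3fb3f61eebd19dfbc9bf6bff9e3bfd9febea1df3d53cf3bc1b33af9b7bb8ba4b9fb9b9803ff1ff3eb9fcbf7bebbd7bdc9ce9f5bfbbe73fe3f91edbdf9d2bcebbbbb59adbb29bfba719939e387b7db7a96eb7f971b6d15635b34f37317c36497bb7fb6fb58b5794993fb36b2a33533f123b1e91db0baff8f4ae88f7affae32dc2df0c50ff2fa2eeafdaf38efad68d9acfab1abe8a62bb0bd2ad89aa97a8dafeaf38ef2f50fa2e68dfad9ac7af88ffaef8fbaf4aec2d32df0cb0b62bd2a1abfabe8aaa9d897a8e07927726fa72a7d865a5b85ea42a7fa7d86927e07726b855a5ea4ca3783ba2783ca3ba2f21f21000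

def S (n : ℕ) : ℕ := Nat.land (Nat.shiftRight tbl (Nat.mul 12 n)) 4095

theorem sm_enc : ∀ a : A, sm (enc a) = S (index a) := by decide +kernel

theorem mask_support_enc (a : A) : mask (ternarySupport (enc a)) = S (index a) := by
  rw [mask_support, sm_enc]

theorem card_support_enc (a : A) : (ternarySupport (enc a)).card = pc (S (index a)) := by
  rw [card_eq_pc, mask_support_enc]

end Cfsg.Agent.Lib.Helper56.TG
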